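import Groth.Agent.NormalTensor.Main
import Groth.Agent.FpqcDesc.Stalk

/-!
Normal homomorphisms: flat homomorphisms all of whose base changes to fields are normal.
-/

set_option autoImplicit false
set_option linter.style.haveILetI false

universe u

open TensorProduct

namespace Groth.Agent.NormalTensor

open EGA4 (IsNormalRing IsGeomNormal IsNormalHom)

theorem isNormalHom_iff {A B : Type u} [CommRing A] [CommRing B] [Algebra A B] :
    IsNormalHom A B ↔ Module.Flat A B ∧ FieldNormal A B := by
  refine ⟨fun h => ⟨h.1, fieldNormal_of_isNormalHom h⟩, fun h => ⟨h.1, fun p _ k' _ _ _ => ?_⟩⟩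
  letI : Algebra A k' := ((algebraMap p.ResidueField k').comp (algebraMap A p.ResidueField)).toAlgebra
  haveI : IsScalarTower A p.ResidueField k' := IsScalarTower.of_algebraMap_eq fun _ => rfl
  exact isNormalRing_of_ringEquiv ((Algebra.TensorProduct.comm A B k').toRingEquiv.trans
    (Algebra.TensorProduct.cancelBaseChange A p.ResidueField k' k' B).toRingEquiv.symm) (h.2 k')

theorem fieldNormal_baseChange (A B A' : Type u) [CommRing A] [CommRing B] [CommRing A'] [Algebra A B]
    [Algebra A A'] (h : FieldNormal A B) : FieldNormal A' (A' ⊗[A] B) := fun K _ _ => by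
  letI : Algebra A K := ((algebraMap A' K).comp (algebraMap A A')).toAlgebra
  haveI : IsScalarTower A A' K := IsScalarTower.of_algebraMap_eq fun _ => rfl
  exact isNormalRing_of_ringEquiv ((Algebra.TensorProduct.comm A B K).toRingEquiv.trans
    ((Algebra.TensorProduct.cancelBaseChange A A' K K B).toRingEquiv.symm.trans
      (Algebra.TensorProduct.comm A' K (A' ⊗[A] B)).toRingEquiv)) (h K)

theorem isNormalRing_field_descent' (A B K L : Type u) [CommRing A] [CommRing B] [Algebra A B] [Field K] [Field L]
    [Algebra A K] [Algebra A L] [Algebra K L] [IsScalarTower A K L] (h : IsNormalRing (L ⊗[A] B)) :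
    IsNormalRing (K ⊗[A] B) :=
  isNormalRing_of_faithfullyFlat (K ⊗[A] B) ((K ⊗[A] B) ⊗[K] L)
    (isNormalRing_of_ringEquiv ((Algebra.TensorProduct.comm K (K ⊗[A] B) L).toRingEquiv.trans
      (Algebra.TensorProduct.cancelBaseChange A K L L B).toRingEquiv).symm h)

theorem fieldNormal_descent (A B A' : Type u) [CommRing A] [CommRing B] [CommRing A'] [Algebra A B]
    [Algebra A A'] [Module.FaithfullyFlat A A'] (h : FieldNormal A' (A' ⊗[A] B)) : FieldNormal A B := by
  intro K _ _
  haveI : Nontrivial (K ⊗[A] A') := inferInstance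
  obtain ⟨m, hm⟩ := Ideal.exists_maximal (K ⊗[A] A')
  letI : Field ((K ⊗[A] A') ⧸ m) := Ideal.Quotient.field m
  let L := (K ⊗[A] A') ⧸ m
  letI : Algebra A' L := ((Ideal.Quotient.mk m).comp
    (Algebra.TensorProduct.includeRight (R := A) (A := K) (B := A')).toRingHom).toAlgebra
  haveI : IsScalarTower A A' L := IsScalarTower.of_algebraMap_eq fun x => by
    rw [RingHom.algebraMap_toAlgebra, RingHom.comp_apply]
    show _ = Ideal.Quotient.mk m (Algebra.TensorProduct.includeRight (algebraMap A A' x))
    rw [AlgHom.commutes]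
    rfl
  have h1 : IsNormalRing (L ⊗[A] B) := isNormalRing_of_ringEquiv
    ((Algebra.TensorProduct.comm A' (A' ⊗[A] B) L).toRingEquiv.trans
      (Algebra.TensorProduct.cancelBaseChange A A' L L B).toRingEquiv) (h L)
  exact isNormalRing_of_ringEquiv (Algebra.TensorProduct.comm A K B).toRingEquiv
    (isNormalRing_field_descent' A B K L h1)

theorem isNormalHom_comp (A B C : Type u) [CommRing A] [CommRing B] [CommRing C] [IsNoetherianRing B]
    [IsNoetherianRing C] [Algebra A B] [Algebra B C] [Algebra A C] [IsScalarTower A B C]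
    (hAB : IsNormalHom A B) (hBC : IsNormalHom B C) : IsNormalHom A C := by
  rw [isNormalHom_iff] at hAB hBC ⊢
  haveI := hAB.1
  haveI := hBC.1
  refine ⟨Module.Flat.trans A B C, fun K _ _ => ?_⟩
  exact isNormalRing_of_ringEquiv (Algebra.TensorProduct.cancelBaseChange A B C C K).toRingEquiv
    (isNormalRing_tensor_of_fieldNormal B C hBC.2 (B ⊗[A] K) (hAB.2 K))

theorem isNormalHom_of_comp (A B C : Type u) [CommRing A] [CommRing B] [CommRing C] [Algebra A B]
    [Algebra B C] [Algebra A C] [IsScalarTower A B C] [Module.FaithfullyFlat B C] (h : IsNormalHom A C) :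
    IsNormalHom A B := by
  rw [isNormalHom_iff] at h ⊢
  haveI := h.1
  refine ⟨FlatDescStalk.flat_of_comp_faithfullyFlat A B C, fun K _ _ => ?_⟩
  exact isNormalRing_of_faithfullyFlat (B ⊗[A] K) ((B ⊗[A] K) ⊗[B] C)
      (isNormalRing_of_ringEquiv ((Algebra.TensorProduct.comm B (B ⊗[A] K) C).toRingEquiv.trans
        (Algebra.TensorProduct.cancelBaseChange A B C C K).toRingEquiv).symm (h.2 K))

end Groth.Agent.NormalTensor
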