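import Groth.Agent.NormalTensor.Finite
import Groth.Agent.NormalTensor.Hom
import Groth.Agent.Hensel.Idempotent
import Groth.Agent.ConnEt.Component
import Groth.Agent.S17334
import Groth.Agent.GeomIrred.Ring

/-!
Henselian local rings with geometrically normal formal fibres: the formal fibres are geometrically
integral.
-/

set_option autoImplicit false
set_option linter.style.haveILetI false

universe u

open TensorProduct IsLocalRing

namespace Groth.Agent.NormalTensor

/-- A finite domain over a henselian local ring is local. -/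
theorem isLocalRing_of_finite_domain (A B : Type u) [CommRing A] [HenselianLocalRing A] [CommRing B]
    [IsDomain B] [Algebra A B] [Module.Finite A B] : IsLocalRing B := by
  haveI : HenselianRing A (maximalIdeal A) := Hensel.henselianRing_maximalIdeal_iff.mpr inferInstance
  let J := (maximalIdeal A).map (algebraMap A B)
  have hJ : J ≤ Ideal.jacobson ⊥ :=
    Hensel.map_le_jacobson_of_isIntegral (IsLocalRing.maximalIdeal_le_jacobson _)
  have hJne : J ≠ ⊤ := fun h => by
    obtain ⟨M, hM⟩ := Ideal.exists_maximal B
    exact hM.ne_top (top_le_iff.mp (h ▸ hJ.trans (sInf_le ⟨bot_le, hM⟩)))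
  haveI : Nontrivial (B ⧸ J) := Ideal.Quotient.nontrivial_iff.mpr hJne
  letI : Field (A ⧸ maximalIdeal A) := Ideal.Quotient.field _
  haveI : Module.Finite (A ⧸ maximalIdeal A) (B ⧸ J) := Module.Finite.of_restrictScalars_finite A _ _
  haveI : IsLocalRing (B ⧸ J) := (S17334.result (A ⧸ maximalIdeal A) (B ⧸ J)).mp fun e he => by
    obtain ⟨e', he', rfl⟩ := Hensel.surjOn_idempotent (I := maximalIdeal A) B he
    rcases IsIdempotentElem.iff_eq_zero_or_one.mp he' with rfl | rfl
    · exact Or.inl (map_zero _)
    · exact Or.inr (map_one _)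
  refine IsLocalRing.of_unique_max_ideal ⟨(maximalIdeal (B ⧸ J)).comap (Ideal.Quotient.mk J),
    Ideal.comap_isMaximal_of_surjective _ Ideal.Quotient.mk_surjective, fun M hM => ?_⟩
  have hJM : J ≤ M := hJ.trans (sInf_le ⟨bot_le, hM⟩)
  have hsup : M ⊔ RingHom.ker (Ideal.Quotient.mk J) = M :=
    sup_eq_left.mpr (Ideal.mk_ker.trans_le hJM)
  have hmap : (M.map (Ideal.Quotient.mk J)).IsMaximal := by
    refine Or.resolve_left (Ideal.map_eq_top_or_isMaximal_of_surjective _ Ideal.Quotient.mk_surjective hM) fun h => ?_
    have h1 := congrArg (Ideal.comap (Ideal.Quotient.mk J)) h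
    rw [Ideal.comap_map_of_surjective' _ Ideal.Quotient.mk_surjective, hsup, Ideal.comap_top] at h1
    exact hM.ne_top h1
  rw [← IsLocalRing.eq_maximalIdeal hmap, Ideal.comap_map_of_surjective' _ Ideal.Quotient.mk_surjective, hsup]

variable (A : Type u) [CommRing A] [IsNoetherianRing A] [IsLocalRing A]

/-- The completion of a local finite algebra is local. -/
theorem isLocalRing_completion_tensor (B : Type u) [CommRing B] [IsLocalRing B] [Algebra A B]
    [Module.Finite A B] [Nontrivial (EGA4.Cpl A ⊗[A] B)] : IsLocalRing (EGA4.Cpl A ⊗[A] B) := by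
  let C := EGA4.Cpl A
  haveI := RegLocal.isLocalRing_completion A (maximalIdeal A) (maximalIdeal.isMaximal A).ne_top
  have hmax : maximalIdeal C = (maximalIdeal A).map (algebraMap A C) :=
    RegLocal.maximalIdeal_completion A (maximalIdeal A) (maximalIdeal.isMaximal A).ne_top
  haveI : Algebra.IsIntegral C (C ⊗[A] B) := Algebra.IsIntegral.of_finite C _
  let ι : B →ₐ[A] C ⊗[A] B := Algebra.TensorProduct.includeRight
  have hev : Function.Surjective (AdicCompletion.evalOneₐ (maximalIdeal A)) :=
    AdicCompletion.evalOneₐ_surjective _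
  have hker : RingHom.ker (AdicCompletion.evalOneₐ (maximalIdeal A)).toRingHom = maximalIdeal C := by
    rw [hmax]
    exact AdicCompletion.ker_evalOneₐ_eq_map _ (maximalIdeal A).fg_of_isNoetherianRing
  -- modulo the maximal ideal of the completion everything comes from `B`
  have key : ∀ z : C ⊗[A] B, ∃ b : B,
      z - ι b ∈ (maximalIdeal C).map (Algebra.TensorProduct.includeLeftRingHom (R := A) (A := C) (B := B)) := by
    intro z
    induction z using TensorProduct.induction_on with
    | zero => exact ⟨0, by simp⟩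
    | tmul c b =>
      obtain ⟨a, ha⟩ := Ideal.Quotient.mk_surjective (AdicCompletion.evalOneₐ (maximalIdeal A) c)
      refine ⟨a • b, ?_⟩
      have hmem : c - algebraMap A C a ∈ maximalIdeal C := by
        rw [← hker, RingHom.mem_ker, map_sub, sub_eq_zero]
        show AdicCompletion.evalOneₐ _ c = AdicCompletion.evalOneₐ _ (algebraMap A C a)
        rw [AlgHom.commutes, ← ha]
        rfl
      have h1 : c ⊗ₜ[A] b - ι (a • b) = ((c - algebraMap A C a) ⊗ₜ[A] (1 : B)) * ι b := by
        simp only [ι, Algebra.TensorProduct.includeRight_apply, Algebra.TensorProduct.tmul_mul_tmul, mul_one,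
          one_mul, TensorProduct.sub_tmul]
        rw [Algebra.algebraMap_eq_smul_one, TensorProduct.smul_tmul, sub_mul, Algebra.TensorProduct.tmul_mul_tmul,
          Algebra.TensorProduct.tmul_mul_tmul, mul_one, one_mul, one_mul, smul_mul_assoc, one_mul]
      rw [h1]
      exact Ideal.mul_mem_right _ _ (Ideal.mem_map_of_mem _ hmem)
    | add x y hx hy =>
      obtain ⟨b, hb⟩ := hx
      obtain ⟨b', hb'⟩ := hy
      exact ⟨b + b', by rw [map_add, add_sub_add_comm]; exact add_mem hb hb'⟩
  have hall : ∀ M : Ideal (C ⊗[A] B), M.IsMaximal →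
      (maximalIdeal C).map (Algebra.TensorProduct.includeLeftRingHom (R := A) (A := C) (B := B)) ≤ M ∧
        M.comap ι.toRingHom = maximalIdeal B := by
    intro M hM
    have h1 : (M.comap (algebraMap C (C ⊗[A] B))).IsMaximal := Ideal.isMaximal_comap_of_isIntegral_of_isMaximal M
    have h2 : (maximalIdeal C).map (Algebra.TensorProduct.includeLeftRingHom (R := A) (A := C) (B := B)) ≤ M :=
      Ideal.map_le_iff_le_comap.mpr (IsLocalRing.eq_maximalIdeal h1).ge
    refine ⟨h2, ?_⟩
    let g : B →+* (C ⊗[A] B) ⧸ M := (Ideal.Quotient.mk M).comp ι.toRingHom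
    have hg : Function.Surjective g := fun q => by
      obtain ⟨z, rfl⟩ := Ideal.Quotient.mk_surjective q
      obtain ⟨b, hb⟩ := key z
      exact ⟨b, (Ideal.Quotient.eq.mpr (h2 hb)).symm⟩
    letI : Field ((C ⊗[A] B) ⧸ M) := Ideal.Quotient.field M
    have h3 : (RingHom.ker g).IsMaximal := RingHom.ker_isMaximal_of_surjective g hg
    have h4 : RingHom.ker g = M.comap ι.toRingHom := by
      rw [← RingHom.comap_ker, Ideal.mk_ker]
    exact h4 ▸ IsLocalRing.eq_maximalIdeal h3
  obtain ⟨M₀, hM₀⟩ := Ideal.exists_maximal (C ⊗[A] B)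
  refine IsLocalRing.of_unique_max_ideal ⟨M₀, hM₀, fun M hM => ?_⟩
  refine hM.eq_of_le hM₀.ne_top fun z hz => ?_
  obtain ⟨b, hb⟩ := key z
  obtain ⟨hM1, hM2⟩ := hall M hM
  obtain ⟨hN1, hN2⟩ := hall M₀ hM₀
  have hbM : b ∈ M.comap ι.toRingHom := by
    rw [Ideal.mem_comap]
    have := M.sub_mem hz (hM1 hb)
    simpa using this
  rw [hM2, ← hN2, Ideal.mem_comap] at hbM
  have := M₀.add_mem hbM (hN1 hb)
  simpa using this

/-- A normal local ring is a domain. -/
theorem isDomain_of_isNormalRing_local {R : Type u} [CommRing R] [IsLocalRing R] (h : EGA4.IsNormalRing R) :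
    IsDomain R := by
  let P := maximalIdeal R
  haveI := (h P).1
  haveI : IsLocalization P.primeCompl R := IsLocalization.self fun x hx => notMem_maximalIdeal.mp hx
  exact (IsLocalization.algEquiv P.primeCompl R (Localization.AtPrime P)).toRingEquiv.injective.isDomain

variable {A}

theorem isDomain_completion_tensor_fraction [HenselianLocalRing A] (hA : EGA4.HasGeomNormalFormalFibres A)
    (B L : Type u) [CommRing B] [IsDomain B] [IsIntegrallyClosed B] [Algebra A B] [Module.Finite A B]
    [Field L] [Algebra A L] [Algebra B L] [IsScalarTower A B L] [IsFractionRing B L] :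
    IsDomain (EGA4.Cpl A ⊗[A] B) ∧ IsDomain (EGA4.Cpl A ⊗[A] L) := by
  haveI := RegLocal.faithfullyFlat_completion A _ (maximalIdeal.isMaximal A).ne_top
  haveI : IsNoetherianRing (EGA4.Cpl A) := RegLocal.isNoetherianRing_completion A _
  haveI := isLocalRing_of_finite_domain A B
  haveI : Nontrivial (EGA4.Cpl A ⊗[A] B) := inferInstance
  haveI := isLocalRing_completion_tensor A B
  haveI hdB : IsDomain (EGA4.Cpl A ⊗[A] B) := isDomain_of_isNormalRing_local
    (isNormalRing_tensor_of_fieldNormal A (EGA4.Cpl A) (fieldNormal_completion A hA) B (isNormalRing_of_domain B))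
  refine ⟨hdB, ?_⟩
  letI := (Algebra.TensorProduct.map (AlgHom.id A (EGA4.Cpl A)) (IsScalarTower.toAlgHom A B L)).toRingHom.toAlgebra
  haveI := isLocalization_tensor A (EGA4.Cpl A) B L (nonZeroDivisors B)
  exact IsLocalization.isDomain_of_le_nonZeroDivisors (M := (nonZeroDivisors B).map
      (Algebra.TensorProduct.includeRight (R := A) (A := EGA4.Cpl A))) (EGA4.Cpl A ⊗[A] L)
    (le_nonZeroDivisors_of_injective (N := EGA4.Cpl A ⊗[A] L) _
      (Module.Flat.lTensor_preserves_injective_linearMap (IsScalarTower.toAlgHom A B L).toLinearMap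
        (IsFractionRing.injective B L)))

/-- Finite extensions of residue fields keep the formal fibres integral. -/
theorem isDomain_completion_tensor_finite [HenselianLocalRing A] (hA : EGA4.HasGeomNormalFormalFibres A)
    (p : Ideal A) [p.IsPrime] (L : Type u) [Field L] [Algebra A L] [Algebra p.ResidueField L]
    [IsScalarTower A p.ResidueField L] [FiniteDimensional p.ResidueField L] :
    IsDomain (EGA4.Cpl A ⊗[A] L) := by
  let K := p.ResidueField
  let A1 := A ⧸ p
  letI : Algebra A1 L := ((algebraMap K L).comp (algebraMap A1 K)).toAlgebra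
  haveI : IsScalarTower A1 K L := IsScalarTower.of_algebraMap_eq fun _ => rfl
  haveI : IsScalarTower A A1 L := IsScalarTower.of_algebraMap_eq fun a => by
    rw [IsScalarTower.algebraMap_apply A K L, IsScalarTower.algebraMap_apply A A1 K]
    rfl
  let F := FractionRing A1
  let ψ : F ≃ₐ[A1] K := FractionRing.algEquiv A1 K
  letI : Algebra F L := ((algebraMap K L).comp ψ.toRingHom).toAlgebra
  haveI : IsScalarTower A1 F L := IsScalarTower.of_algebraMap_eq fun x => by
    show algebraMap K L (algebraMap A1 K x) = algebraMap K L (ψ (algebraMap A1 F x))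
    rw [ψ.commutes]
  letI : Algebra F K := ψ.toRingHom.toAlgebra
  haveI : IsScalarTower F K L := IsScalarTower.of_algebraMap_eq fun _ => rfl
  haveI : Module.Finite F K := Module.Finite.of_surjective (Algebra.linearMap F K) ψ.surjective
  haveI : FiniteDimensional F L := Module.Finite.trans K L
  haveI hfin := finite_integralClosure_finiteExtension A hA p L
  haveI : Algebra.IsAlgebraic A1 L := Algebra.IsAlgebraic.trans A1 K L
  haveI : IsFractionRing (integralClosure A1 L) L :=
    integralClosure.isFractionRing_of_algebraic (fun x hx => by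
      refine IsFractionRing.injective A1 K ((algebraMap K L).injective ?_)
      rw [map_zero, map_zero, ← IsScalarTower.algebraMap_apply, hx])
  haveI : IsIntegrallyClosed (integralClosure A1 L) := by
    refine (isIntegrallyClosed_iff L).mpr fun {x} hx => ?_
    exact ⟨⟨x, isIntegral_trans x hx⟩, rfl⟩
  haveI : Module.Finite A A1 := Module.Finite.of_surjective (Algebra.linearMap A A1) Ideal.Quotient.mk_surjective
  haveI : Module.Finite A (integralClosure A1 L) := Module.Finite.trans A1 _
  exact (isDomain_completion_tensor_fraction hA (integralClosure A1 L) L).2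

end Groth.Agent.NormalTensor
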