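import Groth.Agent.NormalTensor.Basic
import Groth.Agent.Unibranch.NormalStalk
import Groth.Agent.FieldExtLib.Separable

/-!
Normal rings and extensions of the ground field.
-/

set_option autoImplicit false
set_option linter.style.haveILetI false

universe u

open TensorProduct

namespace Groth.Agent.NormalTensor

open EGA4 (IsNormalRing IsGeomNormal)

theorem isNormalRing_of_etale (R S : Type u) [CommRing R] [CommRing S] [Algebra R S] [Algebra.Etale R S]
    (h : IsNormalRing R) : IsNormalRing S := fun q _ => by
  haveI := (h (q.comap (algebraMap R S))).1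
  haveI := (h (q.comap (algebraMap R S))).2
  exact Unibranch.isDomain_isIntegrallyClosed_localization (R := R) q
    (Localization.AtPrime (q.comap (algebraMap R S))) (Localization.AtPrime q)

theorem isNormalRing_mvPolynomial_fin (R : Type u) [CommRing R] (h : IsNormalRing R) :
    ∀ n : ℕ, IsNormalRing (MvPolynomial (Fin n) R)
  | 0 => isNormalRing_of_ringEquiv (MvPolynomial.isEmptyAlgEquiv R (Fin 0)).symm.toRingEquiv h
  | n + 1 => isNormalRing_of_ringEquiv (MvPolynomial.finSuccEquiv R n).symm.toRingEquiv
      (isNormalRing_polynomial _ (isNormalRing_mvPolynomial_fin R h n))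

theorem isNormalRing_mvPolynomial (R : Type u) [CommRing R] (h : IsNormalRing R) (σ : Type u) [Finite σ] :
    IsNormalRing (MvPolynomial σ R) := by
  obtain ⟨n, ⟨e⟩⟩ := Finite.exists_equiv_fin σ
  exact isNormalRing_of_ringEquiv (MvPolynomial.renameEquiv R e).symm.toRingEquiv
    (isNormalRing_mvPolynomial_fin R h n)

theorem isNormalRing_tensor_fractionRing (k : Type u) [Field k] (ι : Type u) [Finite ι] (F : Type u) [Field F]
    [Algebra k F] [Algebra (MvPolynomial ι k) F] [IsScalarTower k (MvPolynomial ι k) F]
    [IsFractionRing (MvPolynomial ι k) F]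
    (R : Type u) [CommRing R] [Algebra k R] (hR : IsNormalRing R) : IsNormalRing (F ⊗[k] R) := by
  let P := MvPolynomial ι k
  let S := P ⊗[k] R
  have hS : IsNormalRing S := isNormalRing_of_ringEquiv
    ((MvPolynomial.algebraTensorAlgEquiv (σ := ι) k R).toRingEquiv.symm.trans
      (Algebra.TensorProduct.comm k R P).toRingEquiv) (isNormalRing_mvPolynomial R hR ι)
  letI : Algebra S (F ⊗[P] S) := Algebra.TensorProduct.rightAlgebra
  haveI : IsLocalization (Algebra.algebraMapSubmonoid S (nonZeroDivisors P)) (F ⊗[P] S) :=
    IsLocalization.tensorRight F (nonZeroDivisors P)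
  exact isNormalRing_of_ringEquiv (Algebra.TensorProduct.cancelBaseChange k P F F R).toRingEquiv
    (isNormalRing_localization (Algebra.algebraMapSubmonoid S (nonZeroDivisors P)) hS)

theorem isNormalRing_tensor_finite_separable (k F E : Type u) [Field k] [Field F] [Field E] [Algebra k F]
    [Algebra k E] [Algebra F E] [IsScalarTower k F E] [Module.Finite F E] [Algebra.IsSeparable F E]
    (R : Type u) [CommRing R] [Algebra k R] (hR : IsNormalRing (F ⊗[k] R)) : IsNormalRing (E ⊗[k] R) := by
  haveI : Algebra.FinitePresentation F E := Algebra.FinitePresentation.of_finiteType.mp inferInstance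
  haveI : Algebra.FormallyEtale F E := (Algebra.FormallyEtale.iff_isSeparable F E).mpr inferInstance
  haveI : Algebra.Etale F E := ⟨inferInstance, inferInstance⟩
  have hE : IsNormalRing ((F ⊗[k] R) ⊗[F] E) := isNormalRing_of_etale (F ⊗[k] R) _ hR
  exact isNormalRing_of_ringEquiv ((Algebra.TensorProduct.comm F (F ⊗[k] R) E).toRingEquiv.trans
    (Algebra.TensorProduct.cancelBaseChange k F E E R).toRingEquiv) hE

theorem isNormalRing_of_cancelBaseChange (k K L : Type u) [Field k] [Field K] [Field L] [Algebra k K]
    [Algebra k L] [Algebra K L] [IsScalarTower k K L] (R : Type u) [CommRing R] [Algebra k R]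
    (h : IsNormalRing (L ⊗[K] (K ⊗[k] R))) : IsNormalRing (L ⊗[k] R) :=
  isNormalRing_of_ringEquiv (Algebra.TensorProduct.cancelBaseChange k K L L R).toRingEquiv h

theorem isNormalRing_of_field_descent (k K L : Type u) [Field k] [Field K] [Field L] [Algebra k K]
    [Algebra k L] [Algebra K L] [IsScalarTower k K L] (R : Type u) [CommRing R] [Algebra k R]
    (h : IsNormalRing (L ⊗[k] R)) : IsNormalRing (K ⊗[k] R) :=
  isNormalRing_of_faithfullyFlat (K ⊗[k] R) ((K ⊗[k] R) ⊗[K] L)
    (isNormalRing_of_ringEquiv ((Algebra.TensorProduct.comm K (K ⊗[k] R) L).toRingEquiv.trans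
      (Algebra.TensorProduct.cancelBaseChange k K L L R).toRingEquiv).symm h)

variable (k : Type u) [Field k] (E : Type u) [Field E] [Algebra k E]

theorem isNormalRing_tensor_separablyGenerated [Algebra.EssFiniteType k E] (s : Finset E)
    (hs : IsTranscendenceBasis k ((↑) : s → E))
    [Algebra.IsSeparable (IntermediateField.adjoin k (s : Set E)) E]
    (R : Type u) [CommRing R] [Algebra k R] (hR : IsNormalRing R) : IsNormalRing (E ⊗[k] R) := by
  classical
  let ι : Type u := ↥s
  let F := IntermediateField.adjoin k (Set.range ((↑) : ι → E))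
  haveI : Algebra.IsSeparable F E := by
    convert! (inferInstance : Algebra.IsSeparable (IntermediateField.adjoin k (s : Set E)) E) <;> simp [F, ι]
  let P := MvPolynomial ι k
  let e := hs.1.aevalEquivField
  letI : Algebra P F := (e.toRingHom.comp (algebraMap P (FractionRing P))).toAlgebra
  haveI : IsScalarTower k P F := IsScalarTower.of_algebraMap_eq fun r => by
    show algebraMap k F r = e (algebraMap P (FractionRing P) (algebraMap k P r))
    rw [← IsScalarTower.algebraMap_apply k P (FractionRing P), e.commutes]
  haveI : IsFractionRing P F := IsLocalization.isLocalization_of_algEquiv _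
    (AlgEquiv.ofRingEquiv (f := e.toRingEquiv) fun _ => rfl : FractionRing P ≃ₐ[P] F)
  haveI : Algebra.EssFiniteType F E := Algebra.EssFiniteType.of_comp k F E
  haveI : Module.Finite F E := Algebra.finite_of_essFiniteType_of_isAlgebraic
  exact isNormalRing_tensor_finite_separable k F E R (isNormalRing_tensor_fractionRing k ι F R hR)

theorem exists_separating [Algebra.EssFiniteType k E] [Algebra.IsGeometricallyReduced k E] :
    ∃ s : Finset E, IsTranscendenceBasis k ((↑) : s → E) ∧
      Algebra.IsSeparable (IntermediateField.adjoin k (s : Set E)) E := by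
  obtain _ | ⟨p, hp, hpk⟩ := CharP.exists' k
  · exact exists_isTranscendenceBasis_and_isSeparable_of_perfectField k E
  · haveI : ExpChar k p := .prime hp.out
    exact exists_isTranscendenceBasis_and_isSeparable_of_linearIndepOn_pow_of_essFiniteType p hp.out
      ((FieldExtLib.isGeometricallyReduced_iff_powIndep (A := E) p).mp inferInstance)

variable {k E}

/-- A tensor product over a field is normal as soon as it is so for all finitely generated
subextensions. -/
theorem isNormalRing_tensor_of_forall_fg {R : Type u} [CommRing R] [Algebra k R]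
    (h : ∀ K₀ : IntermediateField k E, K₀.FG → IsNormalRing (K₀ ⊗[k] R)) : IsNormalRing (E ⊗[k] R) := by
  classical
  refine isNormalRing_of_forall_exists_hom fun s => ?_
  choose S hS using fun x : E ⊗[k] R => TensorProduct.exists_finset x
  let T : Finset E := s.biUnion fun x => (S x).image Prod.fst
  let K₀ := IntermediateField.adjoin k (T : Set E)
  refine ⟨K₀ ⊗[k] R, inferInstance,
    (Algebra.TensorProduct.map K₀.val (AlgHom.id k R)).toRingHom, ?_, ?_, h K₀ (IntermediateField.fg_adjoin_finset T)⟩
  · exact Module.Flat.rTensor_preserves_injective_linearMap K₀.val.toLinearMap K₀.val.injective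
  · intro x hx
    rw [hS x]
    refine sum_mem (S := (Algebra.TensorProduct.map K₀.val (AlgHom.id k R)).range) fun i hi => ?_
    exact ⟨(⟨i.1, IntermediateField.subset_adjoin k _ (Finset.mem_biUnion.mpr
      ⟨x, hx, Finset.mem_image_of_mem _ hi⟩)⟩ : K₀) ⊗ₜ[k] i.2, by simp⟩

theorem isNormalRing_tensor_over_perfect (k K L : Type u) [Field k] [Field K] [Field L] [Algebra k K]
    [Algebra k L] [Algebra K L] [IsScalarTower k K L] [PerfectField K] [Algebra.EssFiniteType K L]
    (R : Type u) [CommRing R] [Algebra k R] (h : IsNormalRing (K ⊗[k] R)) : IsNormalRing (L ⊗[k] R) := by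
  obtain ⟨s, hs, hsep⟩ := exists_isTranscendenceBasis_and_isSeparable_of_perfectField K L
  exact isNormalRing_of_cancelBaseChange k K L R (isNormalRing_tensor_separablyGenerated K L s hs _ h)

theorem geometricallyReduced_intermediateField [Algebra.IsGeometricallyReduced k E]
    (K₀ : IntermediateField k E) : Algebra.IsGeometricallyReduced k K₀ :=
  Algebra.IsGeometricallyReduced.of_injective K₀.val K₀.val.injective

/-- Separable extensions of the ground field preserve normality. -/
theorem isNormalRing_tensor_of_isGeometricallyReduced [Algebra.IsGeometricallyReduced k E]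
    {R : Type u} [CommRing R] [Algebra k R] (hR : IsNormalRing R) : IsNormalRing (E ⊗[k] R) := by
  refine isNormalRing_tensor_of_forall_fg fun K₀ hK₀ => ?_
  haveI := geometricallyReduced_intermediateField K₀
  haveI : Algebra.EssFiniteType k K₀ := IntermediateField.essFiniteType_iff.mpr hK₀
  obtain ⟨s, hs, hsep⟩ := exists_separating k K₀
  exact isNormalRing_tensor_separablyGenerated k K₀ s hs R hR

theorem isNormalRing_tensor_algebraic [Algebra.IsAlgebraic k E] {R : Type u} [CommRing R] [Algebra k R]
    (hR : IsGeomNormal k R) : IsNormalRing (E ⊗[k] R) := by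
  refine isNormalRing_tensor_of_forall_fg fun K₀ hK₀ => ?_
  obtain ⟨T, rfl⟩ := hK₀
  exact hR _ (IntermediateField.finiteDimensional_adjoin fun x _ => (Algebra.IsAlgebraic.isAlgebraic x).isIntegral)

variable (E)

/-- A geometrically normal algebra stays normal after any extension of the ground field. -/
theorem isNormalRing_tensor_field {R : Type u} [CommRing R] [Algebra k R]
    (hR : IsGeomNormal k R) : IsNormalRing (E ⊗[k] R) := by
  refine isNormalRing_tensor_of_forall_fg fun L hL => ?_
  haveI : Algebra.EssFiniteType k L := IntermediateField.essFiniteType_iff.mpr hL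
  let Ω := AlgebraicClosure L
  let k₁ := algebraicClosure k Ω
  haveI : IsAlgClosure k k₁ := algebraicClosure.isAlgClosure k Ω
  haveI : IsAlgClosed k₁ := IsAlgClosure.isAlgClosed k
  haveI : Algebra.IsAlgebraic k k₁ := algebraicClosure.isAlgebraic k Ω
  obtain ⟨T, hT⟩ := IntermediateField.fg_top k L
  let L' : IntermediateField k₁ Ω := IntermediateField.adjoin k₁ (algebraMap L Ω '' (T : Set L))
  haveI : Algebra.EssFiniteType k₁ L' :=
    IntermediateField.essFiniteType_iff.mpr (IntermediateField.fg_def.mpr ⟨_, T.finite_toSet.image _, rfl⟩)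
  have hL' : ∀ x : L, algebraMap L Ω x ∈ L' := by
    intro x
    have hle : (⊤ : IntermediateField k L) ≤ (L'.restrictScalars k).comap (IsScalarTower.toAlgHom k L Ω) := by
      rw [← hT]
      exact IntermediateField.adjoin_le_iff.mpr fun y hy =>
        IntermediateField.subset_adjoin k₁ _ ⟨y, hy, rfl⟩
    exact hle (IntermediateField.mem_top (x := x))
  letI : Algebra L L' := ((algebraMap L Ω).codRestrict L' hL').toAlgebra
  haveI : IsScalarTower k L L' := IsScalarTower.of_algebraMap_eq fun r => Subtype.ext
    (IsScalarTower.algebraMap_apply k L Ω r)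
  exact isNormalRing_of_field_descent k L L' R
    (isNormalRing_tensor_over_perfect k k₁ L' R (isNormalRing_tensor_algebraic hR))

/-- Algebraic separable extensions of the ground field preserve normality. -/
theorem isNormalRing_tensor_of_isSeparable (k E : Type u) [Field k] [Field E] [Algebra k E]
    [Algebra.IsSeparable k E] {R : Type u} [CommRing R] [Algebra k R] (hR : IsNormalRing R) :
    IsNormalRing (E ⊗[k] R) := by
  refine isNormalRing_tensor_of_forall_fg fun K₀ hK₀ => ?_
  haveI : Algebra.EssFiniteType k K₀ := IntermediateField.essFiniteType_iff.mpr hK₀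
  haveI : Algebra.IsSeparable k K₀ := Algebra.isSeparable_tower_bot_of_isSeparable k K₀ E
  haveI : Module.Finite k K₀ := Algebra.finite_of_essFiniteType_of_isAlgebraic
  exact isNormalRing_tensor_finite_separable k k K₀ R
    (isNormalRing_of_ringEquiv (Algebra.TensorProduct.lid k R).symm.toRingEquiv hR)

/-- Change of the intermediate field in a separable extension. -/
theorem isNormalRing_tensor_separable_tower (k P L : Type u) [Field k] [Field P] [Field L] [Algebra k P]
    [Algebra k L] [Algebra P L] [IsScalarTower k P L] [Algebra.IsSeparable P L]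
    (R : Type u) [CommRing R] [Algebra k R] (h : IsNormalRing (P ⊗[k] R)) : IsNormalRing (L ⊗[k] R) :=
  isNormalRing_of_cancelBaseChange k P L R (isNormalRing_tensor_of_isSeparable P L h)

end Groth.Agent.NormalTensor
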