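import Groth.Agent.NormalTensor.Dvr
import Groth.Agent.NormalTensor.Field

/-!
Flat base changes with universally normal fibres preserve normality.
-/

set_option autoImplicit false
set_option linter.style.haveILetI false

universe u

open TensorProduct

namespace Groth.Agent.NormalTensor

open EGA4 (IsNormalRing IsGeomNormal IsNormalHom)

/-- All base changes of `A'` to fields are normal rings. -/
def FieldNormal (A A' : Type u) [CommRing A] [CommRing A'] [Algebra A A'] : Prop :=
  ∀ (K : Type u) [Field K] [Algebra A K], IsNormalRing (A' ⊗[A] K)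

theorem fieldNormal_of_isNormalHom {A A' : Type u} [CommRing A] [CommRing A'] [Algebra A A']
    (h : IsNormalHom A A') : FieldNormal A A' := by
  intro K _ _
  let p := RingHom.ker (algebraMap A K)
  haveI : p.IsPrime := RingHom.ker_isPrime _
  letI : Algebra p.ResidueField K :=
    (Ideal.ResidueField.lift p (algebraMap A K) le_rfl (fun a ha => by
      exact (isUnit_iff_ne_zero.mpr ha))).toAlgebra
  haveI : IsScalarTower A p.ResidueField K := IsScalarTower.of_algebraMap_eq fun a => by
    rw [RingHom.algebraMap_toAlgebra, Ideal.ResidueField.lift_algebraMap]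
  exact isNormalRing_of_ringEquiv
    ((Algebra.TensorProduct.cancelBaseChange A p.ResidueField K K A').toRingEquiv.trans
      (Algebra.TensorProduct.comm A K A').toRingEquiv) (isNormalRing_tensor_field K (h.2 p))

theorem fieldNormal_of_isGeomNormal {k S : Type u} [Field k] [CommRing S] [Algebra k S]
    (h : IsGeomNormal k S) : FieldNormal k S := fun K _ _ =>
  isNormalRing_of_ringEquiv (Algebra.TensorProduct.comm k K S).toRingEquiv (isNormalRing_tensor_field K h)

variable (A A' : Type u) [CommRing A] [CommRing A'] [Algebra A A'] [Module.Flat A A']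

theorem mem_range_integralClosure (H : FieldNormal A A') (B K : Type u) [CommRing B]
    [IsNoetherianRing B] [Algebra A B] [Field K] [Algebra A K] [Algebra B K] [IsScalarTower A B K]
    [Algebra.EssFiniteType B K] (x : A' ⊗[A] K)
    (hx : (Algebra.TensorProduct.map (AlgHom.id A A') (IsScalarTower.toAlgHom A B K)).toRingHom.IsIntegralElem x) :
    x ∈ LinearMap.range
      (((Subalgebra.toSubmodule (integralClosure B K)).subtype.restrictScalars A).lTensor A') := by
  classical
  let C₀ := Subalgebra.toSubmodule (integralClosure B K)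
  let π : K →ₗ[A] K ⧸ C₀ := C₀.mkQ.restrictScalars A
  obtain ⟨S, hS⟩ := TensorProduct.exists_finset x
  let M : Submodule B (K ⧸ C₀) := Submodule.span B ((S.image fun i => π i.2 : Finset _) : Set _)
  haveI : Module.Finite B M := Module.Finite.span_of_finite B (Finset.finite_toSet _)
  obtain ⟨T, hT, hTz⟩ := exists_finset_dvr B K M
  let ι : M →ₗ[A] K ⧸ C₀ := M.subtype.restrictScalars A
  obtain ⟨y, hy⟩ : π.lTensor A' x ∈ LinearMap.range (ι.lTensor A') := by
    rw [hS, map_sum]
    refine sum_mem fun i hi => ⟨i.1 ⊗ₜ ⟨π i.2, Submodule.subset_span (Finset.mem_coe.mpr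
      (Finset.mem_image_of_mem _ hi))⟩, ?_⟩
    simp [ι]
  let VB : (R : T) → Submodule B K := fun R =>
    { carrier := R.1
      zero_mem' := R.1.zero_mem
      add_mem' := fun ha hb => R.1.add_mem _ _ ha hb
      smul_mem' := fun b a ha => by
        rw [Algebra.smul_def]; exact R.1.mul_mem _ _ ((hT R.1 R.2).2 b) ha }
  have hle : ∀ R : T, C₀ ≤ VB R := fun R z hz => by
    obtain ⟨hdvr, hB⟩ := hT R.1 R.2
    obtain ⟨r, hr⟩ := IsIntegrallyClosed.algebraMap_eq_of_integral (R := R.1) (K := K) (x := z) (by
      obtain ⟨q, hq, hqe⟩ := hz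
      refine ⟨q.map ((algebraMap B K).codRestrict R.1.toSubring hB), hq.map _, ?_⟩
      rw [Polynomial.eval₂_map]
      exact hqe)
    show z ∈ R.1
    rw [← hr]; exact r.2
  let g : (R : T) → M →ₗ[A] K ⧸ VB R := fun R =>
    ((C₀.liftQ (VB R).mkQ (by rw [Submodule.ker_mkQ]; exact hle R)).comp M.subtype).restrictScalars A
  -- the image in each `K / R` vanishes
  have hg : ∀ R : T, (g R).lTensor A' y = 0 := by
    intro R
    obtain ⟨hdvr, hB⟩ := hT R.1 R.2
    haveI := hdvr
    letI : Algebra A R.1 := (((algebraMap B K).codRestrict R.1.toSubring hB).comp (algebraMap A B)).toAlgebra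
    haveI : IsScalarTower A R.1 K := IsScalarTower.of_algebraMap_eq fun a =>
      (IsScalarTower.algebraMap_apply A B K a)
    let ψ : B →ₐ[A] R.1 :=
      { (algebraMap B K).codRestrict R.1.toSubring hB with commutes' := fun a => rfl }
    obtain ⟨v, hv⟩ := mem_range_of_dvr A A' R.1 K (isReduced_of_isNormalRing (H _)) x (by
      obtain ⟨q, hq, hqe⟩ := hx
      refine ⟨q.map (Algebra.TensorProduct.map (AlgHom.id A A') ψ).toRingHom, hq.map _, ?_⟩
      rw [Polynomial.eval₂_map]
      refine Eq.trans ?_ hqe
      congr 1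
      refine RingHom.ext fun w => ?_
      induction w using TensorProduct.induction_on with
      | zero => simp
      | tmul a b => rfl
      | add a b ha hb => simp only [map_add] at ha hb ⊢; rw [ha, hb])
    let q : K →ₗ[A] K ⧸ VB R := (VB R).mkQ.restrictScalars A
    have h1 : (g R).lTensor A' y = q.lTensor A' x := by
      have : q = ((C₀.liftQ (VB R).mkQ (by rw [Submodule.ker_mkQ]; exact hle R)).restrictScalars A).comp π :=
        LinearMap.ext fun z => rfl
      rw [this, LinearMap.lTensor_comp, LinearMap.comp_apply, ← hy, ← LinearMap.comp_apply, ← LinearMap.lTensor_comp]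
      rfl
    rw [h1, ← hv]
    clear hv h1
    induction v using TensorProduct.induction_on with
    | zero => simp
    | tmul a b =>
      have h0 : q ((b : R.1) : K) = 0 := (Submodule.Quotient.mk_eq_zero _).mpr b.2
      show a ⊗ₜ[A] q ((b : R.1) : K) = 0
      rw [h0, TensorProduct.tmul_zero]
    | add a b ha hb => rw [map_add, map_add, ha, hb, add_zero]
  -- finitely many components detect elements
  have hpi : Function.Injective (LinearMap.pi g) := by
    refine (injective_iff_map_eq_zero _).mpr fun m hm => ?_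
    obtain ⟨z, hz⟩ := C₀.mkQ_surjective m.1
    have : IsIntegral B z := hTz z (hz ▸ m.2 :) fun R hR => by
      have h2 := congrFun hm ⟨R, hR⟩
      simp only [g, LinearMap.pi_apply, LinearMap.coe_restrictScalars, LinearMap.comp_apply,
        Submodule.subtype_apply, ← hz, Submodule.mkQ_apply, Submodule.liftQ_apply, Pi.zero_apply] at h2
      exact (Submodule.Quotient.mk_eq_zero _).mp h2
    exact Subtype.ext (hz ▸ (Submodule.Quotient.mk_eq_zero _).mpr this)
  have hy0 : y = 0 := by
    refine Module.Flat.lTensor_preserves_injective_linearMap (M := A') _ hpi ?_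
    rw [map_zero]
    apply (TensorProduct.piRight A A A' fun R : T => K ⧸ VB R).injective
    rw [map_zero]
    funext R
    have : ∀ w : A' ⊗[A] M, TensorProduct.piRight A A A' (fun R : T => K ⧸ VB R)
        ((LinearMap.pi g).lTensor A' w) R = (g R).lTensor A' w := fun w => by
      induction w using TensorProduct.induction_on with
      | zero => simp
      | tmul a b => simp
      | add a b ha hb => simp only [map_add, Pi.add_apply, ha, hb]
    rw [this, hg R]
    rfl
  have hex : Function.Exact ((C₀.subtype.restrictScalars A).lTensor A') (π.lTensor A') :=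
    lTensor_exact A' (f := C₀.subtype.restrictScalars A) (g := π)
      (fun z => by simp [π, Submodule.Quotient.mk_eq_zero]) C₀.mkQ_surjective
  exact (hex x).mp (by rw [← hy, hy0, map_zero])

/-- A flat base change with universally normal fibres of an integrally closed domain is integrally
closed in the base change of the fraction field. -/
theorem mem_range_of_isIntegrallyClosed [IsNoetherianRing A] (H : FieldNormal A A') (C L : Type u)
    [CommRing C] [IsDomain C] [IsIntegrallyClosed C] [Algebra A C] [Field L] [Algebra A L] [Algebra C L]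
    [IsScalarTower A C L] [IsFractionRing C L] (x : A' ⊗[A] L)
    (hx : (Algebra.TensorProduct.map (AlgHom.id A A') (IsScalarTower.toAlgHom A C L)).toRingHom.IsIntegralElem x) :
    x ∈ Set.range (Algebra.TensorProduct.map (AlgHom.id A A') (IsScalarTower.toAlgHom A C L)) := by
  classical
  let f := Algebra.TensorProduct.map (AlgHom.id A A') (IsScalarTower.toAlgHom A C L)
  obtain ⟨p, hp, hpx⟩ := hx
  obtain ⟨S, hS⟩ := TensorProduct.exists_finset x
  choose num den hden using fun l : L => IsFractionRing.div_surjective (A := C) l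
  choose Sc hSc using fun c : A' ⊗[A] C => TensorProduct.exists_finset c
  let G : Finset C := (S.image fun i => num i.2) ∪ (S.image fun i => den i.2) ∪
    p.coeffs.biUnion fun c => (Sc c).image Prod.snd
  let B := Algebra.adjoin A (G : Set C)
  haveI : Algebra.FiniteType A B := (Subalgebra.fg_iff_finiteType _).mp ⟨G, rfl⟩
  haveI : IsNoetherianRing B := Algebra.FiniteType.isNoetherianRing A B
  let K := FractionRing B
  let g : B →ₐ[A] L := (IsScalarTower.toAlgHom A C L).comp B.val
  have hg : Function.Injective g := (IsFractionRing.injective C L).comp Subtype.val_injective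
  let ψ : K →ₐ[A] L := IsFractionRing.liftAlgHom hg
  have hψ : ∀ b, ψ (algebraMap B K b) = algebraMap C L b.1 := fun b => by
    show IsFractionRing.liftAlgHom hg (algebraMap B K b) = _
    simp [IsFractionRing.liftAlgHom, g]
  let Ψ := Algebra.TensorProduct.map (AlgHom.id A A') ψ
  have hΨ : Function.Injective Ψ :=
    Module.Flat.lTensor_preserves_injective_linearMap (M := A') ψ.toLinearMap ψ.toRingHom.injective
  obtain ⟨x₀, hx₀⟩ : ∃ x₀, Ψ x₀ = x := by
    rw [hS]
    refine sum_mem (S := Ψ.range) fun i hi => ?_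
    have h1 : num i.2 ∈ B := Algebra.subset_adjoin (by simp [G, Finset.mem_image]; grind)
    have h2 : den i.2 ∈ B := Algebra.subset_adjoin (by simp [G, Finset.mem_image]; grind)
    refine ⟨i.1 ⊗ₜ (algebraMap B K ⟨_, h1⟩ / algebraMap B K ⟨_, h2⟩), ?_⟩
    show Ψ _ = _
    rw [Algebra.TensorProduct.map_tmul, map_div₀, hψ, hψ]
    obtain ⟨-, he⟩ := hden i.2
    rw [he]
    rfl
  let ΦB := Algebra.TensorProduct.map (AlgHom.id A A') B.val
  have hlift : p ∈ Polynomial.lifts ΦB.toRingHom := (Polynomial.lifts_iff_coeff_lifts p).2 fun n => by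
    by_cases hn : p.coeff n = 0
    · exact ⟨0, by rw [map_zero, hn]⟩
    · rw [hSc (p.coeff n)]
      refine sum_mem (S := ΦB.range) fun i hi => ?_
      have h1 : i.2 ∈ B := Algebra.subset_adjoin (Finset.mem_coe.mpr (Finset.mem_union_right _
        (Finset.mem_biUnion.mpr ⟨_, Polynomial.coeff_mem_coeffs hn, Finset.mem_image_of_mem _ hi⟩)))
      exact ⟨i.1 ⊗ₜ ⟨i.2, h1⟩, rfl⟩
  rcases subsingleton_or_nontrivial (A' ⊗[A] C) with hsub | hnt
  · refine ⟨0, ?_⟩
    have : (1 : A' ⊗[A] L) = 0 := by rw [← map_one f, Subsingleton.elim (1 : A' ⊗[A] C) 0, map_zero]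
    rw [map_zero, ← mul_one x, this, mul_zero]
  obtain ⟨p₀, hp₀, -, hp₀m⟩ := Polynomial.lifts_and_degree_eq_and_monic hlift hp
  haveI : Algebra.EssFiniteType B K := Algebra.EssFiniteType.of_isLocalization K (nonZeroDivisors B)
  obtain ⟨w, hw⟩ := mem_range_integralClosure A A' H B K x₀ ⟨p₀, hp₀m, by
    apply hΨ
    rw [map_zero]
    show Ψ.toRingHom _ = 0
    rw [Polynomial.hom_eval₂]
    rw [← hp₀, Polynomial.eval₂_map, ← hx₀] at hpx
    refine Eq.trans ?_ hpx
    congr 1
    refine RingHom.ext fun v => ?_
    induction v using TensorProduct.induction_on with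
    | zero => simp
    | tmul a b => exact congrArg (fun l => a ⊗ₜ[A] l) (hψ b)
    | add a b ha hb => simp only [map_add] at ha hb ⊢; rw [ha, hb]⟩
  rw [← hx₀, ← hw]
  clear hw
  induction w using TensorProduct.induction_on with
  | zero => exact ⟨0, by simp⟩
  | tmul a c =>
    have hi : IsIntegral C (ψ (c : K)) := by
      obtain ⟨q, hq, hqe⟩ := c.2
      refine ⟨q.map B.val.toRingHom, hq.map _, ?_⟩
      rw [Polynomial.eval₂_map]
      have h1 := congrArg ψ.toRingHom hqe
      rw [map_zero, Polynomial.hom_eval₂] at h1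
      refine Eq.trans ?_ h1
      congr 1
      exact RingHom.ext fun b => (hψ b).symm
    obtain ⟨c', hc'⟩ := IsIntegrallyClosed.algebraMap_eq_of_integral hi
    exact ⟨a ⊗ₜ c', congrArg (fun l => a ⊗ₜ[A] l) hc'⟩
  | add a b ha hb =>
    obtain ⟨a', ha'⟩ := ha
    obtain ⟨b', hb'⟩ := hb
    exact ⟨a' + b', by rw [map_add, ha', hb', map_add, map_add]⟩

theorem isLocalization_tensor (C D : Type u) [CommRing C] [CommRing D] [Algebra A C] [Algebra A D]
    [Algebra C D] [IsScalarTower A C D] (M : Submonoid C) [IsLocalization M D] :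
    letI := (Algebra.TensorProduct.map (AlgHom.id A A') (IsScalarTower.toAlgHom A C D)).toRingHom.toAlgebra
    IsLocalization (M.map (Algebra.TensorProduct.includeRight (R := A) (A := A'))) (A' ⊗[A] D) := by
  letI := (Algebra.TensorProduct.map (AlgHom.id A A') (IsScalarTower.toAlgHom A C D)).toRingHom.toAlgebra
  haveI : IsScalarTower A' (A' ⊗[A] C) (A' ⊗[A] D) := IsScalarTower.of_algebraMap_eq fun a => by
    simp [RingHom.algebraMap_toAlgebra]
  exact IsLocalization.tensorProduct_tensorProduct_right A A' M D (RingHom.ext fun c => by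
    simp [RingHom.algebraMap_toAlgebra])

/-- Integrally closed domains with small fraction field: the base change is normal when it has a
Noetherian ring of fractions. -/
theorem isNormalRing_tensor_of_fractions [IsNoetherianRing A] (H : FieldNormal A A') (C L : Type u)
    [CommRing C] [IsDomain C] [IsIntegrallyClosed C] [Algebra A C] [Field L] [Algebra A L] [Algebra C L]
    [IsScalarTower A C L] [IsFractionRing C L] (N : Type u) [CommRing N] [IsNoetherianRing N]
    [Algebra (A' ⊗[A] L) N] (S : Submonoid (A' ⊗[A] L)) [IsLocalization S N]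
    (hinj : Function.Injective (algebraMap (A' ⊗[A] L) N)) : IsNormalRing (A' ⊗[A] C) := by
  let f := Algebra.TensorProduct.map (AlgHom.id A A') (IsScalarTower.toAlgHom A C L)
  have hf : Function.Injective f :=
    Module.Flat.lTensor_preserves_injective_linearMap (IsScalarTower.toAlgHom A C L).toLinearMap
      (IsFractionRing.injective C L)
  letI : Algebra (A' ⊗[A] C) (A' ⊗[A] L) := f.toRingHom.toAlgebra
  haveI := isLocalization_tensor A A' C L (nonZeroDivisors C)
  letI : Algebra (A' ⊗[A] C) N := ((algebraMap (A' ⊗[A] L) N).comp f.toRingHom).toAlgebra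
  haveI : IsScalarTower (A' ⊗[A] C) (A' ⊗[A] L) N := IsScalarTower.of_algebraMap_eq fun x => rfl
  let M := (nonZeroDivisors C).map (Algebra.TensorProduct.includeRight (R := A) (A := A'))
  haveI : IsLocalization (IsLocalization.localizationLocalizationSubmodule M S) N :=
    IsLocalization.localization_localization_isLocalization M S N
  have hL : IsNormalRing (A' ⊗[A] L) := H L
  refine isNormalRing_of_isIntegrallyClosedIn (IsLocalization.localizationLocalizationSubmodule M S)
    (le_nonZeroDivisors_of_injective (N := N) (IsLocalization.localizationLocalizationSubmodule M S) (hinj.comp hf))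
    (isNormalRing_localization (S := N) S hL) ?_
  refine isIntegrallyClosedIn_iff.mpr ⟨hinj.comp hf, fun {x} hx => ?_⟩
  haveI := isIntegrallyClosedIn_of_isLocalization (N := N) S (le_nonZeroDivisors_of_injective (N := N) S hinj) hL
  obtain ⟨y, rfl⟩ := IsIntegrallyClosedIn.isIntegral_iff.mp (hx.tower_top (A := A' ⊗[A] L))
  obtain ⟨p, hp, hpe⟩ := hx
  obtain ⟨z, hz⟩ := mem_range_of_isIntegrallyClosed A A' H C L y ⟨p, hp, hinj (by
    rw [map_zero, Polynomial.hom_eval₂]
    exact hpe)⟩
  exact ⟨z, congrArg (algebraMap _ N) hz⟩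

/-- Reduction to integrally closed domains whose fraction field is essentially of finite type. -/
theorem isNormalRing_tensor_of_smallCase' [IsNoetherianRing A] (B : Type u) [CommRing B] [Algebra A B]
    (h : ∀ (C L : Type u) [CommRing C] [IsDomain C] [IsIntegrallyClosed C] [Algebra A C] [Field L]
      [Algebra A L] [Algebra C L] [IsScalarTower A C L] [IsFractionRing C L] [Algebra.EssFiniteType A L],
      (∃ (q : Ideal B) (_ : q.IsPrime), Nonempty (L →ₐ[A] FractionRing (Localization.AtPrime q))) →
      IsNormalRing (A' ⊗[A] C))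
    (hB : IsNormalRing B) : IsNormalRing (A' ⊗[A] B) := by
  classical
  refine isNormalRing_of_forall_localization fun Q hQ => ?_
  let q := Q.comap (Algebra.TensorProduct.includeRight (R := A) (A := A') (B := B)).toRingHom
  haveI : q.IsPrime := inferInstance
  let Bq := Localization.AtPrime q
  letI := (Algebra.TensorProduct.map (AlgHom.id A A') (IsScalarTower.toAlgHom A B Bq)).toRingHom.toAlgebra
  refine ⟨q.primeCompl.map (Algebra.TensorProduct.includeRight (R := A) (A := A')), A' ⊗[A] Bq,
    inferInstance, inferInstance, isLocalization_tensor A A' B Bq q.primeCompl, ?_, ?_⟩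
  · rw [Set.disjoint_left]
    rintro _ ⟨b, hb, rfl⟩ hbQ
    exact hb hbQ
  obtain ⟨hd, hic⟩ := hB q
  haveI := hd
  haveI := hic
  let F := FractionRing Bq
  refine isNormalRing_of_forall_exists_hom fun s => ?_
  choose Sc hSc using fun c : A' ⊗[A] Bq => TensorProduct.exists_finset c
  let G : Finset Bq := s.biUnion fun c => (Sc c).image Prod.snd
  let B₀ := Algebra.adjoin A (G : Set Bq)
  haveI : Algebra.FiniteType A B₀ := (Subalgebra.fg_iff_finiteType _).mp ⟨G, rfl⟩
  let K := FractionRing B₀
  let g : B₀ →ₐ[A] F := (IsScalarTower.toAlgHom A Bq F).comp B₀.val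
  have hg : Function.Injective g := (IsFractionRing.injective Bq F).comp Subtype.val_injective
  let ψ : K →ₐ[A] F := IsFractionRing.liftAlgHom hg
  have hψ : ∀ b, ψ (algebraMap B₀ K b) = algebraMap Bq F b.1 := fun b => by
    show IsFractionRing.liftAlgHom hg (algebraMap B₀ K b) = _
    simp [IsFractionRing.liftAlgHom, g]
  let C : Subalgebra A K := (IsScalarTower.toAlgHom A Bq F).range.comap ψ
  have hB₀C : ∀ b : B₀, algebraMap B₀ K b ∈ C := fun b => ⟨b.1, (hψ b).symm⟩
  haveI : IsFractionRing C K := IsFractionRing.of_field C K fun z => by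
    obtain ⟨a, b, -, rfl⟩ := IsFractionRing.div_surjective (A := B₀) z
    exact ⟨⟨_, hB₀C a⟩, ⟨_, hB₀C b⟩, rfl⟩
  have hψC : ∀ c : C, ∃ b, algebraMap Bq F b = ψ c := fun c => c.2
  choose χ hχ using hψC
  have hχinj : Function.Injective χ := fun a b hab =>
    Subtype.ext (ψ.toRingHom.injective (by simp only [AlgHom.toRingHom_eq_coe, RingHom.coe_coe, ← hχ, hab]))
  let χ' : C →ₐ[A] Bq :=
    { toFun := χ
      map_one' := IsFractionRing.injective Bq F (by rw [hχ]; simp)
      map_mul' := fun a b => IsFractionRing.injective Bq F (by rw [hχ, map_mul, hχ, hχ]; simp)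
      map_zero' := IsFractionRing.injective Bq F (by rw [hχ]; simp)
      map_add' := fun a b => IsFractionRing.injective Bq F (by rw [hχ, map_add, hχ, hχ]; simp)
      commutes' := fun a => IsFractionRing.injective Bq F (by
        rw [hχ, ← IsScalarTower.algebraMap_apply A Bq F]; exact ψ.commutes a) }
  haveI : IsIntegrallyClosed C := (isIntegrallyClosed_iff K).mpr fun {z} hz => by
    obtain ⟨p, hp, hpe⟩ := hz
    have hi : IsIntegral Bq (ψ z) := by
      refine ⟨p.map χ'.toRingHom, hp.map _, ?_⟩
      rw [Polynomial.eval₂_map]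
      have h1 := congrArg ψ.toRingHom hpe
      rw [map_zero, Polynomial.hom_eval₂] at h1
      refine Eq.trans ?_ h1
      congr 1
      exact RingHom.ext fun c => hχ c
    obtain ⟨b, hb⟩ := IsIntegrallyClosed.algebraMap_eq_of_integral hi
    exact ⟨⟨z, b, hb⟩, rfl⟩
  haveI : Algebra.EssFiniteType B₀ K := Algebra.EssFiniteType.of_isLocalization K (nonZeroDivisors B₀)
  haveI : Algebra.EssFiniteType A K := Algebra.EssFiniteType.comp A B₀ K
  refine ⟨A' ⊗[A] C, inferInstance, (Algebra.TensorProduct.map (AlgHom.id A A') χ').toRingHom, ?_, ?_, h C K ⟨q, inferInstance, ⟨ψ⟩⟩⟩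
  · exact Module.Flat.lTensor_preserves_injective_linearMap χ'.toLinearMap hχinj
  · intro c hc
    rw [hSc c]
    refine sum_mem (S := (Algebra.TensorProduct.map (AlgHom.id A A') χ').range) fun i hi => ?_
    have h1 : i.2 ∈ B₀ := Algebra.subset_adjoin (Finset.mem_coe.mpr
      (Finset.mem_biUnion.mpr ⟨c, hc, Finset.mem_image_of_mem _ hi⟩))
    refine ⟨i.1 ⊗ₜ ⟨_, hB₀C ⟨i.2, h1⟩⟩, ?_⟩
    show i.1 ⊗ₜ[A] χ ⟨_, hB₀C ⟨i.2, h1⟩⟩ = _
    rw [IsFractionRing.injective Bq F ((hχ ⟨_, hB₀C ⟨i.2, h1⟩⟩).trans (hψ ⟨i.2, h1⟩))]

theorem isNormalRing_tensor_of_smallCase [IsNoetherianRing A]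
    (h : ∀ (C L : Type u) [CommRing C] [IsDomain C] [IsIntegrallyClosed C] [Algebra A C] [Field L]
      [Algebra A L] [Algebra C L] [IsScalarTower A C L] [IsFractionRing C L] [Algebra.EssFiniteType A L],
      IsNormalRing (A' ⊗[A] C))
    (B : Type u) [CommRing B] [Algebra A B] (hB : IsNormalRing B) : IsNormalRing (A' ⊗[A] B) := by
  refine isNormalRing_tensor_of_smallCase' A A' B (fun C L => ?_) hB
  intros
  exact h C L

/-- Normal homomorphisms of Noetherian rings preserve normality under arbitrary base change. -/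
theorem isNormalRing_tensor_of_fieldNormal [IsNoetherianRing A] [IsNoetherianRing A'] (H : FieldNormal A A')
    (B : Type u) [CommRing B] [Algebra A B] (hB : IsNormalRing B) : IsNormalRing (A' ⊗[A] B) := by
  refine isNormalRing_tensor_of_smallCase A A' (fun C L => ?_) B hB
  intros
  haveI : IsNoetherianRing (A' ⊗[A] L) := Algebra.EssFiniteType.isNoetherianRing A' _
  haveI : IsLocalization (⊥ : Submonoid (A' ⊗[A] L)) (A' ⊗[A] L) :=
    IsLocalization.self fun x hx => by simp [Submonoid.mem_bot.mp hx]
  exact isNormalRing_tensor_of_fractions A A' H C L (A' ⊗[A] L) ⊥ fun _ _ h => h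

theorem isNormalRing_tensor_field_domain (k T : Type u) [Field k] [CommRing T] [IsDomain T] [Algebra k T]
    (H : FieldNormal k T) (B : Type u) [CommRing B] [Algebra k B] (hB : IsNormalRing B) :
    IsNormalRing (T ⊗[k] B) := by
  refine isNormalRing_tensor_of_smallCase k T (fun C L => ?_) B hB
  intros
  let F := FractionRing T
  let j : T ⊗[k] L →ₐ[k] F ⊗[k] L :=
    Algebra.TensorProduct.map (IsScalarTower.toAlgHom k T F) (AlgHom.id k L)
  letI := j.toRingHom.toAlgebra
  haveI : IsScalarTower T (T ⊗[k] L) (F ⊗[k] L) := IsScalarTower.of_algebraMap_eq fun a => by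
    simp only [RingHom.algebraMap_toAlgebra, j, Algebra.TensorProduct.algebraMap_apply]
    rfl
  haveI := IsLocalization.tensorProduct_tensorProduct k L (nonZeroDivisors T) F
    (RingHom.ext fun b => by simp [RingHom.algebraMap_toAlgebra, j])
  haveI : IsNoetherianRing (F ⊗[k] L) := Algebra.EssFiniteType.isNoetherianRing F _
  exact isNormalRing_tensor_of_fractions k T H C L (F ⊗[k] L)
    (Algebra.algebraMapSubmonoid (T ⊗[k] L) (nonZeroDivisors T))
    (Module.Flat.rTensor_preserves_injective_linearMap (IsScalarTower.toAlgHom k T F).toLinearMap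
      (IsFractionRing.injective T F))


/-- Over a field, no finiteness is needed. -/
theorem isNormalRing_tensor_field_general (k S : Type u) [Field k] [CommRing S] [Algebra k S]
    (hS : IsGeomNormal k S) (B : Type u) [CommRing B] [Algebra k B] (hB : IsNormalRing B) :
    IsNormalRing (S ⊗[k] B) := by
  refine isNormalRing_of_forall_localization fun Q hQ => ?_
  let P := Q.comap (Algebra.TensorProduct.includeLeftRingHom (R := k) (A := S) (B := B))
  haveI : P.IsPrime := inferInstance
  let SP := Localization.AtPrime P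
  let ι : S ⊗[k] B →ₐ[k] SP ⊗[k] B :=
    Algebra.TensorProduct.map (IsScalarTower.toAlgHom k S SP) (AlgHom.id k B)
  letI := ι.toRingHom.toAlgebra
  haveI : IsScalarTower S (S ⊗[k] B) (SP ⊗[k] B) := IsScalarTower.of_algebraMap_eq fun a => by
    simp [RingHom.algebraMap_toAlgebra, ι, IsScalarTower.algebraMap_apply S SP (SP ⊗[k] B)]
  refine ⟨Algebra.algebraMapSubmonoid (S ⊗[k] B) P.primeCompl, SP ⊗[k] B, inferInstance, inferInstance,
    IsLocalization.tensorProduct_tensorProduct k B P.primeCompl SP (RingHom.ext fun b => by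
      simp [RingHom.algebraMap_toAlgebra, ι]), ?_, ?_⟩
  · rw [Set.disjoint_left]
    rintro _ ⟨b, hb, rfl⟩ hbQ
    exact hb hbQ
  -- the geometric normality of the localisation
  have H : FieldNormal k SP := fun K _ _ => by
    let j : S ⊗[k] K →ₐ[k] SP ⊗[k] K :=
      Algebra.TensorProduct.map (IsScalarTower.toAlgHom k S SP) (AlgHom.id k K)
    letI := j.toRingHom.toAlgebra
    haveI : IsScalarTower S (S ⊗[k] K) (SP ⊗[k] K) := IsScalarTower.of_algebraMap_eq fun a => by
      simp [RingHom.algebraMap_toAlgebra, j, IsScalarTower.algebraMap_apply S SP (SP ⊗[k] K)]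
    haveI := IsLocalization.tensorProduct_tensorProduct k K P.primeCompl SP
      (RingHom.ext fun b => by simp [RingHom.algebraMap_toAlgebra, j])
    exact isNormalRing_localization (Algebra.algebraMapSubmonoid (S ⊗[k] K) P.primeCompl)
      (fieldNormal_of_isGeomNormal hS K)
  have hSP : IsNormalRing SP := isNormalRing_localization P.primeCompl
    (isNormalRing_of_ringEquiv (Algebra.TensorProduct.lid k S).toRingEquiv (hS k inferInstance))
  haveI : IsDomain SP :=
    (isNormalRing_of_ringEquiv (Algebra.TensorProduct.lid k S).toRingEquiv (hS k inferInstance) P).1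
  exact isNormalRing_tensor_field_domain k SP H B hB

end Groth.Agent.NormalTensor
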