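import Groth.Agent.NormalTensor.Hom
import Groth.Agent.S6279

/-!
Normality through surjections with locally vanishing kernel; separable algebraic changes of the
ground field.
-/

set_option autoImplicit false
set_option linter.style.haveILetI false

universe u

open TensorProduct

namespace Groth.Agent.NormalTensor

open EGA4 (IsNormalRing IsGeomNormal)

/-- Two ring maps agreeing on the base define a map on the tensor product. -/
theorem exists_lift_ringHom {R L A T : Type u} [CommRing R] [CommRing L] [CommRing A] [CommRing T] [Algebra R L]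
    [Algebra R A] (f : L →+* T) (g : A →+* T) (h : ∀ r, f (algebraMap R L r) = g (algebraMap R A r)) :
    ∃ b : L ⊗[R] A →+* T, ∀ l a, b (l ⊗ₜ[R] a) = f l * g a := by
  letI : Algebra R T := (g.comp (algebraMap R A)).toAlgebra
  let f' : L →ₐ[R] T := { f with commutes' := h }
  let g' : A →ₐ[R] T := { g with commutes' := fun r => rfl }
  exact ⟨(Algebra.TensorProduct.lift f' g' fun _ _ => Commute.all _ _).toRingHom,
    fun l a => Algebra.TensorProduct.lift_tmul f' g' (fun _ _ => Commute.all _ _) l a⟩

/-- A surjection whose kernel vanishes at `P` identifies the local rings. -/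
theorem exists_equiv_atPrime {B C : Type u} [CommRing B] [CommRing C] (π : B →+* C) (hπ : Function.Surjective π)
    (P : Ideal B) [P.IsPrime] (Q : Ideal C) [Q.IsPrime] (hQ : P = Q.comap π)
    (hker : ∀ x, π x = 0 → ∃ s ∉ P, s * x = 0) :
    Nonempty (Localization.AtPrime P ≃+* Localization.AtPrime Q) := by
  let φ := Localization.localRingHom P Q π hQ
  refine ⟨RingEquiv.ofBijective φ ⟨(injective_iff_map_eq_zero φ).mpr fun z hz => ?_, fun z => ?_⟩⟩
  · obtain ⟨a, t, rfl⟩ := IsLocalization.exists_mk'_eq P.primeCompl z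
    simp only [φ] at hz
    rw [Localization.localRingHom_mk', IsLocalization.mk'_eq_zero_iff] at hz
    obtain ⟨⟨c, hc⟩, hca⟩ := hz
    obtain ⟨c, rfl⟩ := hπ c
    obtain ⟨s, hs, hsx⟩ := hker (c * a) (by rw [map_mul]; exact hca)
    have hc' : c ∉ P := fun h => hc (by rw [hQ] at h; exact h)
    rw [IsLocalization.mk'_eq_zero_iff]
    exact ⟨⟨s * c, P.primeCompl.mul_mem hs hc'⟩, by show s * c * a = 0; rw [mul_assoc, hsx]⟩
  · obtain ⟨b, t, rfl⟩ := IsLocalization.exists_mk'_eq Q.primeCompl z
    obtain ⟨a, rfl⟩ := hπ b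
    obtain ⟨t₀, ht₀⟩ := hπ (t : C)
    refine ⟨IsLocalization.mk' _ a (⟨t₀, fun h => t.2 (ht₀ ▸ by rw [hQ] at h; exact h)⟩ : P.primeCompl), ?_⟩
    simp only [φ]
    rw [Localization.localRingHom_mk']
    congr 1
    exact Subtype.ext ht₀

theorem normal_atPrime_iff {B C : Type u} [CommRing B] [CommRing C] (π : B →+* C) (hπ : Function.Surjective π)
    (P : Ideal B) [P.IsPrime] (Q : Ideal C) [Q.IsPrime] (hQ : P = Q.comap π)
    (hker : ∀ x, π x = 0 → ∃ s ∉ P, s * x = 0) :
    (IsDomain (Localization.AtPrime P) ∧ IsIntegrallyClosed (Localization.AtPrime P)) ↔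
      (IsDomain (Localization.AtPrime Q) ∧ IsIntegrallyClosed (Localization.AtPrime Q)) := by
  obtain ⟨e⟩ := exists_equiv_atPrime π hπ P Q hQ hker
  constructor
  · rintro ⟨hd, hi⟩
    haveI := hd; haveI := hi
    haveI : IsDomain (Localization.AtPrime Q) := e.symm.injective.isDomain
    exact ⟨inferInstance, IsIntegrallyClosed.of_equiv e⟩
  · rintro ⟨hd, hi⟩
    haveI := hd; haveI := hi
    haveI : IsDomain (Localization.AtPrime P) := e.injective.isDomain
    exact ⟨inferInstance, IsIntegrallyClosed.of_equiv e.symm⟩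

variable (k k' : Type u) [Field k] [Field k'] [Algebra k k'] [Algebra.IsSeparable k k']
  {A : Type u} [CommRing A] [Algebra k' A] [Algebra k A] [IsScalarTower k k' A]

theorem isGeomNormal_of_separable_bottom (h : IsGeomNormal k A) : IsGeomNormal k' A := by
  intro L _ _ _
  letI : Algebra k L := ((algebraMap k' L).comp (algebraMap k k')).toAlgebra
  haveI : IsScalarTower k k' L := IsScalarTower.of_algebraMap_eq fun _ => rfl
  have hB : IsNormalRing (L ⊗[k] A) := isNormalRing_tensor_field L h
  let inl : L →ₐ[k] L ⊗[k'] A := (Algebra.TensorProduct.includeLeft (R := k') (S := k') (A := L) (B := A)).restrictScalars k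
  let inr : A →ₐ[k] L ⊗[k'] A := (Algebra.TensorProduct.includeRight (R := k') (A := L) (B := A)).restrictScalars k
  let π : L ⊗[k] A →ₐ[k] L ⊗[k'] A := Algebra.TensorProduct.lift inl inr fun _ _ => Commute.all _ _
  have hπt : ∀ (l : L) (a : A), π (l ⊗ₜ[k] a) = l ⊗ₜ[k'] a := fun l a => by
    simp [π, inl, inr]
  have hπ : Function.Surjective π := fun z => by
    induction z using TensorProduct.induction_on with
    | zero => exact ⟨0, map_zero π⟩
    | tmul l a => exact ⟨l ⊗ₜ a, hπt l a⟩
    | add x y hx hy =>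
      obtain ⟨x', rfl⟩ := hx
      obtain ⟨y', rfl⟩ := hy
      exact ⟨x' + y', map_add π x' y'⟩
  intro Q _
  let P := Q.comap π.toRingHom
  haveI : P.IsPrime := inferInstance
  let ρ := algebraMap (L ⊗[k] A) (Localization.AtPrime P)
  -- both copies of `k'` agree at `P`
  have hδ : ∀ c : k', ρ (algebraMap k' L c ⊗ₜ[k] 1) = ρ (1 ⊗ₜ[k] algebraMap k' A c) := by
    intro c
    obtain ⟨f, hf⟩ : ∃ f : Polynomial k, f = minpoly k c := ⟨_, rfl⟩
    have hsep : f.Separable := hf ▸ Algebra.IsSeparable.isSeparable k c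
    let u₀ : k' →ₐ[k] L ⊗[k] A := (Algebra.TensorProduct.includeLeft).comp (IsScalarTower.toAlgHom k k' L)
    let v₀ : k' →ₐ[k] L ⊗[k] A := (Algebra.TensorProduct.includeRight).comp (IsScalarTower.toAlgHom k k' A)
    show ρ (u₀ c) = ρ (v₀ c)
    let F := f.map (algebraMap k (L ⊗[k] A))
    have hu : F.eval (u₀ c) = 0 := by
      rw [Polynomial.eval_map, ← Polynomial.aeval_def, Polynomial.aeval_algHom_apply, hf, minpoly.aeval, map_zero]
    have hv : F.eval (v₀ c) = 0 := by
      rw [Polynomial.eval_map, ← Polynomial.aeval_def, Polynomial.aeval_algHom_apply, hf, minpoly.aeval, map_zero]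
    obtain ⟨g, hg⟩ := Polynomial.binomExpansion F (v₀ c) (u₀ c - v₀ c)
    rw [add_sub_cancel, hu, hv, zero_add] at hg
    have hder : IsUnit (F.derivative.eval (v₀ c)) := by
      rw [Polynomial.derivative_map, Polynomial.eval_map, ← Polynomial.aeval_def, Polynomial.aeval_algHom_apply]
      refine (isUnit_iff_ne_zero.mpr ?_).map v₀
      exact hsep.aeval_derivative_ne_zero (hf ▸ minpoly.aeval k c)
    have hd : u₀ c - v₀ c ∈ P := by
      show π (u₀ c - v₀ c) ∈ Q
      have : π (u₀ c - v₀ c) = 0 := by
        rw [map_sub, sub_eq_zero]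
        show π (algebraMap k' L c ⊗ₜ[k] (1 : A)) = π ((1 : L) ⊗ₜ[k] algebraMap k' A c)
        rw [hπt, hπt, Algebra.algebraMap_eq_smul_one, Algebra.algebraMap_eq_smul_one (A := A),
          TensorProduct.smul_tmul]
      rw [this]; exact Q.zero_mem
    have hunit : IsUnit (ρ (F.derivative.eval (v₀ c) + g * (u₀ c - v₀ c))) := by
      refine IsLocalization.map_units (M := P.primeCompl) _ (⟨_, fun hmem => ?_⟩ : P.primeCompl)
      have h1 : F.derivative.eval (v₀ c) ∈ P := by
        have := P.sub_mem hmem (P.mul_mem_left g hd)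
        simpa using this
      exact Ideal.IsPrime.ne_top ‹P.IsPrime› (Ideal.eq_top_of_isUnit_mem _ h1 hder)
    have h0 : ρ (u₀ c - v₀ c) * ρ (F.derivative.eval (v₀ c) + g * (u₀ c - v₀ c)) = 0 := by
      rw [← map_mul]
      have : (u₀ c - v₀ c) * (F.derivative.eval (v₀ c) + g * (u₀ c - v₀ c)) = 0 := by linear_combination -hg
      rw [this, map_zero]
    rw [← sub_eq_zero, ← map_sub]
    exact hunit.mul_left_eq_zero.mp h0
  -- so `π` is injective at `P`
  let lA : A →ₐ[k] Localization.AtPrime P :=
    (IsScalarTower.toAlgHom k (L ⊗[k] A) (Localization.AtPrime P)).comp Algebra.TensorProduct.includeRight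
  let lL : L →ₐ[k] Localization.AtPrime P :=
    (IsScalarTower.toAlgHom k (L ⊗[k] A) (Localization.AtPrime P)).comp Algebra.TensorProduct.includeLeft
  obtain ⟨back, hback'⟩ := exists_lift_ringHom (R := k') lL.toRingHom lA.toRingHom fun c => hδ c
  have hback : ∀ x, back (π x) = ρ x := fun x => by
    induction x using TensorProduct.induction_on with
    | zero => rw [map_zero, map_zero, map_zero]
    | tmul l a =>
      rw [hπt, hback']
      show ρ (l ⊗ₜ[k] 1) * ρ (1 ⊗ₜ[k] a) = _
      rw [← map_mul, Algebra.TensorProduct.tmul_mul_tmul, mul_one, one_mul]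
    | add x y hx hy => rw [map_add, map_add, hx, hy, map_add]
  refine (normal_atPrime_iff π.toRingHom hπ P Q rfl fun x hx => ?_).mp (hB P)
  have h1 : ρ x = 0 := by
    rw [← hback x]
    have h2 : π x = 0 := hx
    rw [h2, map_zero]
  obtain ⟨⟨s, hs⟩, hsx⟩ := (IsLocalization.map_eq_zero_iff P.primeCompl _ _).mp h1
  exact ⟨s, hs, hsx⟩

theorem isNormalRing_tensor_artinian_reduced (K R : Type u) [Field K] [CommRing R] [Algebra K R]
    [Module.Finite K R] [IsReduced R] {B : Type u} [CommRing B] [Algebra K B] (h : IsGeomNormal K B) :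
    IsNormalRing (R ⊗[K] B) := by
  classical
  haveI : IsArtinianRing R := IsArtinianRing.of_finite K R
  haveI := Fintype.ofFinite (MaximalSpectrum R)
  let F := fun m : MaximalSpectrum R => R ⧸ m.asIdeal
  let e : (R ⊗[K] B) ≃+* ((m : MaximalSpectrum R) → B ⊗[K] F m) :=
    ((Algebra.TensorProduct.comm K R B).trans
      ((Algebra.TensorProduct.congr AlgEquiv.refl ((IsArtinianRing.equivPi R).restrictScalars K)).trans
        (Algebra.TensorProduct.piRight K K B F))).toRingEquiv
  refine isNormalRing_of_ringEquiv e.symm (S6279.result _ fun m => ?_)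
  haveI := m.isMaximal
  letI : Field (F m) := Ideal.Quotient.field m.asIdeal
  haveI : Module.Finite K (F m) := Module.Finite.trans R (F m)
  exact isNormalRing_of_ringEquiv (Algebra.TensorProduct.comm K (F m) B).toRingEquiv (h (F m) inferInstance)

theorem isGeomNormal_of_separable_top (h : IsGeomNormal k' A) : IsGeomNormal k A := by
  intro L _ _ hfin
  haveI := hfin
  haveI : IsReduced (k' ⊗[k] L) :=
    isReduced_of_isNormalRing (isNormalRing_tensor_of_isSeparable k k' (isNormalRing_of_domain L))
  exact isNormalRing_of_ringEquiv ((Algebra.TensorProduct.comm k' (k' ⊗[k] L) A).toRingEquiv.trans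
    ((Algebra.TensorProduct.cancelBaseChange k k' A A L).toRingEquiv.trans
      (Algebra.TensorProduct.comm k A L).toRingEquiv))
    (isNormalRing_tensor_artinian_reduced k' (k' ⊗[k] L) h)

end Groth.Agent.NormalTensor
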