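import Groth.Prelude.Def_EGA4b
import Mathlib

/-!
Normal rings: localisation, faithfully flat descent, filtered unions, and the criterion
"integrally closed in a Noetherian normal ring of fractions".
-/

set_option autoImplicit false
set_option linter.style.haveILetI false

universe u

open TensorProduct Polynomial

namespace Groth.Agent.NormalTensor

open EGA4 (IsNormalRing)

theorem isNormalRing_of_domain (R : Type u) [CommRing R] [IsDomain R] [IsIntegrallyClosed R] :
    IsNormalRing R := fun p _ => by
  haveI : IsDomain (Localization.AtPrime p) :=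
    IsLocalization.isDomain_of_le_nonZeroDivisors _ p.primeCompl_le_nonZeroDivisors
  exact ⟨inferInstance, isIntegrallyClosed_of_isLocalization _ p.primeCompl p.primeCompl_le_nonZeroDivisors⟩

theorem isNormalRing_localization {R S : Type u} [CommRing R] [CommRing S] [Algebra R S]
    (M : Submonoid R) [IsLocalization M S] (h : IsNormalRing R) : IsNormalRing S := fun q _ => by
  obtain ⟨hd, hi⟩ := h (q.under R)
  haveI : IsLocalization.AtPrime (Localization.AtPrime q) (q.under R) :=
    IsLocalization.isLocalization_isLocalization_atPrime_isLocalization M (Localization.AtPrime q) q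
  let e := (IsLocalization.algEquiv (q.under R).primeCompl
    (Localization.AtPrime (q.under R)) (Localization.AtPrime q)).toRingEquiv
  haveI hd' : IsDomain (Localization.AtPrime q) := e.symm.injective.isDomain
  exact ⟨hd', IsIntegrallyClosed.of_equiv e⟩

theorem isNormalRing_of_ringEquiv {R S : Type u} [CommRing R] [CommRing S] (e : R ≃+* S)
    (h : IsNormalRing R) : IsNormalRing S := by
  letI := e.toRingHom.toAlgebra
  haveI : IsLocalization (⊥ : Submonoid R) R :=
    IsLocalization.self fun x hx => by simp [Submonoid.mem_bot.mp hx]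
  haveI : IsLocalization (⊥ : Submonoid R) S :=
    IsLocalization.isLocalization_of_algEquiv _ (AlgEquiv.ofRingEquiv (f := e) fun _ => rfl)
  exact isNormalRing_localization ⊥ h

theorem isIntegrallyClosed_of_isNormalRing {R : Type u} [CommRing R] [IsDomain R] (h : IsNormalRing R) :
    IsIntegrallyClosed R :=
  IsIntegrallyClosed.of_localization_maximal fun p _ hp => (h p).2

theorem isReduced_of_isNormalRing {R : Type u} [CommRing R] (h : IsNormalRing R) : IsReduced R := by
  refine isReduced_ofLocalizationMaximal R fun m _ => ?_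
  haveI := (h m).1
  infer_instance

/-- criterion for integrally closed domains inside a field of fractions -/
theorem isIntegrallyClosed_iff_dvd {R : Type u} [CommRing R] [IsDomain R]
    (h : ∀ (a b : R), b ≠ 0 → ∀ p : R[X], p.Monic → (p.scaleRoots b).eval a = 0 → b ∣ a) :
    IsIntegrallyClosed R := by
  refine (isIntegrallyClosed_iff (FractionRing R)).mpr fun {x} hx => ?_
  obtain ⟨p, hp, hpx⟩ := hx
  obtain ⟨a, b, hb, rfl⟩ := IsFractionRing.div_surjective (A := R) x
  have hb' : algebraMap R (FractionRing R) b ≠ 0 := IsFractionRing.to_map_ne_zero_of_mem_nonZeroDivisors hb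
  have he : (p.scaleRoots b).eval a = 0 := by
    apply IsFractionRing.injective R (FractionRing R)
    rw [map_zero, ← Polynomial.eval₂_at_apply]
    have h1 := scaleRoots_eval₂_eq_zero (algebraMap R (FractionRing R)) (s := b) hpx
    rwa [mul_div_cancel₀ _ hb'] at h1
  obtain ⟨c, rfl⟩ := h a b (nonZeroDivisors.ne_zero hb) p hp he
  exact ⟨c, by rw [map_mul, mul_div_cancel_left₀ _ hb']⟩

/-- A ring is normal when any finite set of its elements lies in the image of an injective
homomorphism from a normal ring. -/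
theorem isNormalRing_of_forall_exists_hom {R : Type u} [CommRing R]
    (h : ∀ s : Finset R, ∃ (D : Type u) (_ : CommRing D) (g : D →+* R),
      Function.Injective g ∧ (↑s : Set R) ⊆ Set.range g ∧ IsNormalRing D) : IsNormalRing R := by
  classical
  intro P _
  let B := Localization.AtPrime P
  have hz : ∀ z : B, ∃ a : R, ∃ t : P.primeCompl, z * algebraMap R B t = algebraMap R B a := fun z => by
    obtain ⟨⟨a, t⟩, hat⟩ := IsLocalization.surj P.primeCompl z
    exact ⟨a, t, hat⟩
  have hdom : IsDomain B := by
    haveI : NoZeroDivisors B := ⟨fun {x y} hxy => by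
      obtain ⟨a, t, ha⟩ := hz x
      obtain ⟨b, s, hb⟩ := hz y
      have h0 : algebraMap R B (a * b) = 0 := by
        rw [map_mul, ← ha, ← hb]; linear_combination (algebraMap R B t * algebraMap R B s) * hxy
      obtain ⟨w, hw⟩ := (IsLocalization.map_eq_zero_iff P.primeCompl B _).mp h0
      obtain ⟨D, _, g, hg, hs, hD⟩ := h {a, b, (w : R)}
      obtain ⟨a₀, ha₀⟩ := hs (by simp : a ∈ (↑({a, b, (w : R)} : Finset R) : Set R))
      obtain ⟨b₀, hb₀⟩ := hs (by simp : b ∈ (↑({a, b, (w : R)} : Finset R) : Set R))
      obtain ⟨w₀, hw₀⟩ := hs (by simp : (w : R) ∈ (↑({a, b, (w : R)} : Finset R) : Set R))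
      haveI := (hD (P.comap g)).1
      have hwQ : w₀ ∈ (P.comap g).primeCompl := fun hh => w.2 (hw₀ ▸ hh)
      have hD0 : algebraMap D (Localization.AtPrime (P.comap g)) (a₀ * b₀) = 0 :=
        (IsLocalization.map_eq_zero_iff (P.comap g).primeCompl _ _).mpr
          ⟨⟨w₀, hwQ⟩, hg (by simp [ha₀, hb₀, hw₀, hw])⟩
      rw [map_mul, mul_eq_zero] at hD0
      have key : ∀ (z : B) (c : R) (c₀ : D) (v : P.primeCompl), g c₀ = c →
          z * algebraMap R B v = algebraMap R B c →
          algebraMap D (Localization.AtPrime (P.comap g)) c₀ = 0 → z = 0 := by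
        intro z c c₀ v hc hv h1
        obtain ⟨⟨e, he⟩, hec⟩ := (IsLocalization.map_eq_zero_iff (P.comap g).primeCompl _ _).mp h1
        have h2 : algebraMap R B c = 0 := (IsLocalization.map_eq_zero_iff P.primeCompl B _).mpr
          ⟨⟨g e, he⟩, by simp only [← hc, ← map_mul, hec, map_zero]⟩
        rw [h2] at hv
        exact (IsLocalization.map_units B v).mul_left_eq_zero.mp hv
      exact hD0.imp (key x a a₀ t ha₀ ha) (key y b b₀ s hb₀ hb)⟩
    exact NoZeroDivisors.to_isDomain B
  haveI := hdom
  refine ⟨hdom, (isIntegrallyClosed_iff (FractionRing B)).mpr fun {x} hx => ?_⟩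
  obtain ⟨x₁, x₂, hx₂, rfl⟩ := IsFractionRing.div_surjective (A := B) x
  let K := FractionRing B
  let ι : R →+* K := (algebraMap B K).comp (algebraMap R B)
  obtain ⟨a₁, t₁, ha₁⟩ := hz x₁
  obtain ⟨a₂, t₂, ha₂⟩ := hz x₂
  have hιu : ∀ t : P.primeCompl, ι t ≠ 0 := fun t =>
    ((IsLocalization.map_units B t).map (algebraMap B K)).ne_zero
  -- write the element as a quotient of elements of `R`
  have hb0 : ι (a₂ * t₁) ≠ 0 := by
    rw [map_mul]
    refine mul_ne_zero ?_ (hιu t₁)
    simp only [ι, RingHom.comp_apply]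
    rw [← ha₂, map_mul]
    exact mul_ne_zero (IsFractionRing.to_map_ne_zero_of_mem_nonZeroDivisors hx₂) (hιu t₂)
  have hq : algebraMap B K x₁ / algebraMap B K x₂ = ι (a₁ * t₂) / ι (a₂ * t₁) := by
    simp only [ι, RingHom.comp_apply, map_mul, ← ha₁, ← ha₂]
    have h1 : algebraMap B K (algebraMap R B t₁) ≠ 0 := hιu t₁
    have h2 : algebraMap B K (algebraMap R B t₂) ≠ 0 := hιu t₂
    rw [div_eq_div_iff (IsFractionRing.to_map_ne_zero_of_mem_nonZeroDivisors hx₂)
      (mul_ne_zero (mul_ne_zero (IsFractionRing.to_map_ne_zero_of_mem_nonZeroDivisors hx₂) h2) h1)]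
    ring
  rw [hq] at hx ⊢
  obtain ⟨m, hm⟩ := IsIntegral.exists_multiple_integral_of_isLocalization P.primeCompl _ hx
  let a := (m : R) * (a₁ * t₂)
  let b := a₂ * (t₁ : R)
  obtain ⟨p, hp, hpe⟩ := hm
  have hma : (m • (ι (a₁ * t₂) / ι b) : K) = ι a / ι b := by
    rw [Submonoid.smul_def, Algebra.smul_def, IsScalarTower.algebraMap_apply R B K]
    simp [ι, a, b, mul_div_assoc]
  rw [hma] at hpe
  -- a relation in `R`
  have hrel : algebraMap R B ((p.scaleRoots b).eval a) = 0 := by
    apply IsFractionRing.injective B K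
    rw [map_zero, ← RingHom.comp_apply, ← Polynomial.eval₂_at_apply]
    show Polynomial.eval₂ ι (ι a) (p.scaleRoots b) = 0
    have hpe' : Polynomial.eval₂ ι (ι a / ι b) p = 0 := by
      rw [show ι = algebraMap R K from (IsScalarTower.algebraMap_eq R B K).symm] at *
      exact hpe
    have h1 := scaleRoots_eval₂_eq_zero ι (s := b) hpe'
    rwa [mul_div_cancel₀ _ hb0] at h1
  obtain ⟨w, hw⟩ := (IsLocalization.map_eq_zero_iff P.primeCompl B _).mp hrel
  obtain ⟨D, _, g, hg, hs, hD⟩ := h ({a, b, (w : R)} ∪ p.coeffs ∪ {1})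
  obtain ⟨a₀, ha₀⟩ := hs (by simp : a ∈ (↑(({a, b, (w : R)} : Finset R) ∪ p.coeffs ∪ {1}) : Set R))
  obtain ⟨b₀, hb₀⟩ := hs (by simp : b ∈ (↑(({a, b, (w : R)} : Finset R) ∪ p.coeffs ∪ {1}) : Set R))
  obtain ⟨w₀, hw₀⟩ := hs (by simp : (w : R) ∈ (↑(({a, b, (w : R)} : Finset R) ∪ p.coeffs ∪ {1}) : Set R))
  have hlift : p ∈ Polynomial.lifts g := (Polynomial.lifts_iff_coeff_lifts p).2 fun n => by
    by_cases hn : p.coeff n = 0
    · exact ⟨0, by rw [map_zero, hn]⟩
    · exact hs (Finset.mem_coe.2 (Finset.mem_union_left _ (Finset.mem_union_right _ (Polynomial.coeff_mem_coeffs hn))))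
  haveI : Nontrivial R := (algebraMap R B).domain_nontrivial
  obtain ⟨p₀, hp₀, -, hp₀m⟩ := Polynomial.lifts_and_degree_eq_and_monic hlift hp
  haveI := (hD (P.comap g)).1
  haveI := (hD (P.comap g)).2
  let E := Localization.AtPrime (P.comap g)
  have hlc : g p₀.leadingCoeff ≠ 0 := by
    rw [hp₀m.leadingCoeff, map_one]
    intro h1
    exact (one_ne_zero : (1 : B) ≠ 0) (by rw [← map_one (algebraMap R B), h1, map_zero])
  have hrel₀ : algebraMap D E ((p₀.scaleRoots b₀).eval a₀) = 0 := by
    refine (IsLocalization.map_eq_zero_iff (P.comap g).primeCompl E _).mpr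
      ⟨⟨w₀, fun hh => w.2 (hw₀ ▸ hh)⟩, hg ?_⟩
    rw [map_mul, map_zero, hw₀, ← Polynomial.eval_map_apply, Polynomial.map_scaleRoots p₀ b₀ g hlc, hp₀,
      ha₀, hb₀]
    exact hw
  let L := FractionRing E
  let j : D →+* L := (algebraMap E L).comp (algebraMap D E)
  have hb₀0 : j b₀ ≠ 0 := by
    intro h0
    have h1 : algebraMap D E b₀ = 0 := IsFractionRing.injective E L (h0.trans (map_zero _).symm)
    obtain ⟨⟨e, he⟩, hec⟩ := (IsLocalization.map_eq_zero_iff (P.comap g).primeCompl _ _).mp h1
    apply hb0
    have h2 : algebraMap R B b = 0 := (IsLocalization.map_eq_zero_iff P.primeCompl B _).mpr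
      ⟨⟨g e, he⟩, by simp only [← hb₀, ← map_mul, hec, map_zero]⟩
    simp only [ι, RingHom.comp_apply]
    rw [show a₂ * (t₁ : R) = b from rfl, h2, map_zero]
  have hint : IsIntegral E (j a₀ / j b₀) := by
    refine ⟨p₀.map (algebraMap D E), hp₀m.map _, ?_⟩
    rw [Polynomial.eval₂_map]
    show Polynomial.eval₂ j (j a₀ / j b₀) p₀ = 0
    have h1 : Polynomial.eval₂ j (j a₀) (p₀.scaleRoots b₀) = 0 := by
      rw [Polynomial.eval₂_at_apply]
      show algebraMap E L (algebraMap D E ((p₀.scaleRoots b₀).eval a₀)) = 0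
      rw [hrel₀, map_zero]
    rw [show j a₀ = j b₀ * (j a₀ / j b₀) from (mul_div_cancel₀ _ hb₀0).symm,
      scaleRoots_eval₂_mul] at h1
    exact (mul_eq_zero.mp h1).resolve_left (pow_ne_zero _ hb₀0)
  obtain ⟨y, hy⟩ := IsIntegrallyClosed.algebraMap_eq_of_integral hint
  obtain ⟨⟨c, s⟩, hcs⟩ := IsLocalization.surj (P.comap g).primeCompl y
  have h3 : algebraMap D E (a₀ * s) = algebraMap D E (b₀ * c) := by
    apply IsFractionRing.injective E L
    rw [map_mul, map_mul, map_mul, map_mul, ← hcs, map_mul, hy]
    show j a₀ * _ = j b₀ * (j a₀ / j b₀ * _)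
    rw [← mul_assoc, mul_div_cancel₀ _ hb₀0]
  obtain ⟨⟨e, he⟩, hes⟩ := (IsLocalization.eq_iff_exists (P.comap g).primeCompl E).mp h3
  have h4 : algebraMap R B (a * g s) = algebraMap R B (b * g c) := by
    refine (IsLocalization.eq_iff_exists P.primeCompl B).mpr ⟨⟨g e, he⟩, ?_⟩
    show g e * _ = g e * _
    rw [← ha₀, ← hb₀, ← map_mul, ← map_mul, ← map_mul, ← map_mul, hes]
  refine ⟨IsLocalization.mk' B (g c) (⟨(m : R) * g s, P.primeCompl.mul_mem m.2 s.2⟩ : P.primeCompl), ?_⟩
  rw [IsLocalization.mk'_eq_mul_mk'_one, eq_div_iff hb0]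
  have hu := IsLocalization.mk'_spec B (1 : R) (⟨(m : R) * g s, P.primeCompl.mul_mem m.2 s.2⟩ : P.primeCompl)
  show algebraMap B K _ * algebraMap B K (algebraMap R B b) = algebraMap B K (algebraMap R B (a₁ * t₂))
  rw [← map_mul]
  congr 1
  simp only [map_mul, map_one] at h4 hu ⊢
  simp only [a, map_mul] at h4
  linear_combination (-(IsLocalization.mk' B (1 : R) (⟨(m : R) * g s, P.primeCompl.mul_mem m.2 s.2⟩ : P.primeCompl))) * h4 + (algebraMap R B a₁ * algebraMap R B t₂) * hu

/-- A Noetherian normal ring without nontrivial idempotents is a domain. -/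
theorem isDomain_of_idempotent {N : Type u} [CommRing N] [IsNoetherianRing N] [Nontrivial N]
    (h : IsNormalRing N) (he : ∀ e : N, IsIdempotentElem e → e = 0 ∨ e = 1) : IsDomain N := by
  classical
  haveI := isReduced_of_isNormalRing h
  haveI : Finite (minimalPrimes N) := (minimalPrimes.finite_of_isNoetherianRing N).to_subtype
  haveI : Fintype (minimalPrimes N) := Fintype.ofFinite _
  let f : minimalPrimes N → Ideal N := fun p => p.1
  have hf : Pairwise (Function.onFun IsCoprime f) := by
    intro p q hpq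
    rw [Function.onFun, Ideal.isCoprime_iff_sup_eq]
    by_contra hne
    obtain ⟨m, hm, hle⟩ := Ideal.exists_le_maximal _ hne
    haveI := hm.isPrime
    haveI := (h m).1
    apply hpq
    -- both primes survive in the domain `N_m`, whose unique minimal prime is zero
    have key : ∀ r : minimalPrimes N, f r ≤ m →
        f r = RingHom.ker (algebraMap N (Localization.AtPrime m)) := by
      intro r hr
      haveI : (f r).IsPrime := r.2.1.1
      have hk : RingHom.ker (algebraMap N (Localization.AtPrime m)) ≤ f r := by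
        intro x hx
        obtain ⟨c, hc⟩ := (IsLocalization.map_eq_zero_iff m.primeCompl _ _).mp hx
        exact ((Ideal.IsPrime.mem_or_mem inferInstance (hc ▸ (f r).zero_mem)).resolve_left fun hh => c.2 (hr hh))
      haveI : (RingHom.ker (algebraMap N (Localization.AtPrime m))).IsPrime := RingHom.ker_isPrime _
      exact le_antisymm (r.2.2 ⟨inferInstance, bot_le⟩ hk) hk
    exact Subtype.ext ((key p (le_sup_left.trans hle)).trans (key q (le_sup_right.trans hle)).symm)
  have hinf : ⨅ p, f p = ⊥ := by
    rw [eq_bot_iff]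
    intro x hx
    have : x ∈ sInf (minimalPrimes N) := by
      rw [Submodule.mem_sInf]
      exact fun p hp => (Submodule.mem_iInf f).mp hx ⟨p, hp⟩
    rw [minimalPrimes, Ideal.sInf_minimalPrimes] at this
    obtain ⟨n, hn⟩ := Ideal.mem_radical_iff.mp this
    exact (Submodule.mem_bot N).mpr ((isReduced_iff N).mp inferInstance x ⟨n, by simpa using hn⟩)
  let E : N ≃+* Π p, N ⧸ f p :=
    ((RingEquiv.quotientBot N).symm.trans (Ideal.quotEquivOfEq hinf.symm)).trans
      (Ideal.quotientInfRingEquivPiQuotient f hf)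
  have hsub : Subsingleton (minimalPrimes N) := ⟨fun p q => by
    by_contra hpq
    haveI : (f p).IsPrime := p.2.1.1
    haveI : (f q).IsPrime := q.2.1.1
    rcases he (E.symm (Pi.single p 1)) (by
      rw [IsIdempotentElem, ← map_mul, ← Pi.single_mul, one_mul]) with h0 | h1
    · have := congrArg E h0
      rw [E.apply_symm_apply, map_zero] at this
      exact one_ne_zero (by simpa using congrFun this p : (1 : N ⧸ f p) = 0)
    · have := congrArg E h1
      rw [E.apply_symm_apply, map_one] at this
      have h2 := congrFun this q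
      rw [Pi.single_eq_of_ne (Ne.symm hpq)] at h2
      exact zero_ne_one h2⟩
  obtain ⟨m, hm⟩ := Ideal.exists_maximal N
  obtain ⟨p, hp, -⟩ := Ideal.exists_minimalPrimes_le (bot_le : (⊥ : Ideal N) ≤ m)
  have hbot : p = ⊥ := le_bot_iff.mp <| hinf ▸ le_iInf fun q =>
    le_of_eq (congrArg Subtype.val (Subsingleton.elim (⟨p, hp⟩ : minimalPrimes N) q))
  haveI : (⊥ : Ideal N).IsPrime := hbot ▸ hp.1.1
  exact IsDomain.of_bot_isPrime N

/-- If `R` is integrally closed in a Noetherian normal ring of fractions, then `R` is normal. -/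
theorem isNormalRing_of_isIntegrallyClosedIn {R N : Type u} [CommRing R] [CommRing N] [Algebra R N]
    (S : Submonoid R) [IsLocalization S N] (hS : S ≤ nonZeroDivisors R) [IsNoetherianRing N]
    (hN : IsNormalRing N) (hR : IsIntegrallyClosedIn R N) : IsNormalRing R := by
  intro Q _
  let M := Algebra.algebraMapSubmonoid N Q.primeCompl
  let B := Localization.AtPrime Q
  let N' := Localization M
  have hinjN : Function.Injective (algebraMap R N) := IsLocalization.injective N hS
  let φ : B →+* N' := IsLocalization.map (T := M) N' (algebraMap R N)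
    (show Q.primeCompl ≤ M.comap (algebraMap R N) from Submonoid.le_comap_map _)
  have hφ : ∀ r, φ (algebraMap R B r) = algebraMap N N' (algebraMap R N r) := fun r =>
    IsLocalization.map_eq _ r
  have hφi : Function.Injective φ := by
    refine (injective_iff_map_eq_zero φ).mpr fun z hz => ?_
    obtain ⟨⟨a, s⟩, hs⟩ := IsLocalization.surj Q.primeCompl z
    have h1 : algebraMap N N' (algebraMap R N a) = 0 := by rw [← hφ, ← hs, map_mul, hz, zero_mul]
    obtain ⟨⟨_, w, hw, rfl⟩, hwa⟩ := (IsLocalization.map_eq_zero_iff M N' _).mp h1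
    have h2 : algebraMap R B a = 0 := (IsLocalization.map_eq_zero_iff Q.primeCompl B _).mpr
      ⟨⟨w, hw⟩, hinjN (by rw [map_mul, map_zero]; exact hwa)⟩
    rw [h2] at hs
    exact (IsLocalization.map_units B s).mul_left_eq_zero.mp hs
  -- integral elements of `N'` come from `B`
  letI := φ.toAlgebra
  have hint : ∀ z : N', IsIntegral B z → ∃ c : B, φ c = z := by
    intro z hz
    obtain ⟨⟨y, ⟨_, t, ht, rfl⟩⟩, hy⟩ := IsLocalization.surj M z
    haveI : IsScalarTower R B N' := IsScalarTower.of_algebraMap_eq fun r => by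
      rw [RingHom.algebraMap_toAlgebra, hφ, ← IsScalarTower.algebraMap_apply]
    haveI : IsScalarTower R N N' := inferInstance
    obtain ⟨m, hm⟩ := IsIntegral.exists_multiple_integral_of_isLocalization Q.primeCompl z hz
    have hy' : algebraMap N N' (algebraMap R N (m : R) * y) = (m • z) * algebraMap R N' t := by
      rw [map_mul, ← hy, Submonoid.smul_def, Algebra.smul_def, IsScalarTower.algebraMap_apply R N N',
        IsScalarTower.algebraMap_apply R N N']
      ring
    have hi : IsIntegral R (algebraMap N N' (algebraMap R N (m : R) * y)) :=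
      hy' ▸ hm.mul isIntegral_algebraMap
    obtain ⟨p, hp, hpe⟩ := hi
    have h0 : algebraMap N N' (Polynomial.eval₂ (algebraMap R N) (algebraMap R N (m : R) * y) p) = 0 := by
      rw [Polynomial.hom_eval₂, ← IsScalarTower.algebraMap_eq]
      exact hpe
    obtain ⟨⟨_, w, hw, rfl⟩, hwp⟩ := (IsLocalization.map_eq_zero_iff M N' _).mp h0
    have hiw : IsIntegral R (algebraMap R N w * (algebraMap R N (m : R) * y)) := by
      by_cases hn : p.natDegree = 0
      · rw [Polynomial.eq_one_of_monic_natDegree_zero hp hn] at hwp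
        simp only [Polynomial.eval₂_one, mul_one] at hwp
        rw [hwp, zero_mul]
        exact isIntegral_zero
      · refine ⟨p.scaleRoots w, (Polynomial.monic_scaleRoots_iff w).mpr hp, ?_⟩
        rw [scaleRoots_eval₂_mul]
        obtain ⟨n, hn'⟩ := Nat.exists_eq_succ_of_ne_zero hn
        rw [hn', pow_succ, mul_assoc, hwp, mul_zero]
    obtain ⟨r, hr⟩ := IsIntegrallyClosedIn.isIntegral_iff.mp hiw
    refine ⟨IsLocalization.mk' B r (⟨w * (m : R) * t, Q.primeCompl.mul_mem (Q.primeCompl.mul_mem hw m.2) ht⟩ :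
      Q.primeCompl), ?_⟩
    have h1 := congrArg φ (IsLocalization.mk'_spec B r
      (⟨w * (m : R) * t, Q.primeCompl.mul_mem (Q.primeCompl.mul_mem hw m.2) ht⟩ : Q.primeCompl))
    rw [map_mul, hφ, hφ, hr, map_mul] at h1
    simp only [map_mul] at h1
    simp only at hy
    rw [← hy] at h1
    have hu : IsUnit (algebraMap N N' (algebraMap R N (w * (m : R) * t))) :=
      IsLocalization.map_units N' (⟨_, _, Q.primeCompl.mul_mem (Q.primeCompl.mul_mem hw m.2) ht, rfl⟩ : M)
    apply hu.mul_right_cancel
    rw [map_mul, map_mul, map_mul, map_mul, h1]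
    ring
  haveI : Nontrivial N' := hφi.nontrivial
  haveI : IsNoetherianRing N' := IsLocalization.isNoetherianRing M N' inferInstance
  have hN' : IsNormalRing N' := isNormalRing_localization M hN
  haveI : IsDomain N' := isDomain_of_idempotent hN' fun e he => by
    obtain ⟨c, rfl⟩ := hint e ⟨Polynomial.X * (Polynomial.X - Polynomial.C 1),
      Polynomial.monic_X.mul (Polynomial.monic_X_sub_C 1), by simp [mul_sub, he.eq]⟩
    rcases IsLocalRing.isUnit_or_isUnit_one_sub_self c with hc | hc
    · right
      have h2 : c * c = c := hφi (by rw [map_mul]; exact he)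
      rw [hc.mul_eq_right.mp h2, map_one]
    · left
      have h2 : c * c = c := hφi (by rw [map_mul]; exact he)
      rw [hc.mul_left_eq_zero.mp (show c * (1 - c) = 0 by linear_combination -h2), map_zero]
  haveI : IsDomain B := hφi.isDomain φ
  refine ⟨inferInstance, isIntegrallyClosed_iff_dvd fun a b hb p hp he => ?_⟩
  haveI := isIntegrallyClosed_of_isNormalRing hN'
  let K := FractionRing N'
  have hb' : algebraMap N' K (φ b) ≠ 0 := by
    rw [map_ne_zero_iff _ (IsFractionRing.injective N' K), map_ne_zero_iff _ hφi]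
    exact hb
  have hz : IsIntegral B (algebraMap N' K (φ a) / algebraMap N' K (φ b)) := by
    refine ⟨p, hp, ?_⟩
    have h1 : Polynomial.eval₂ (algebraMap B K) (algebraMap B K a) (p.scaleRoots b) = 0 := by
      rw [Polynomial.eval₂_at_apply, he, map_zero]
    rw [IsScalarTower.algebraMap_apply B N' K, show algebraMap B N' a = φ a from rfl,
      ← mul_div_cancel₀ (algebraMap N' K (φ a)) hb', show algebraMap N' K (φ b) = algebraMap B K b from rfl,
      scaleRoots_eval₂_mul] at h1
    exact (mul_eq_zero.mp h1).resolve_left (pow_ne_zero _ hb')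
  obtain ⟨c, hc⟩ := IsIntegrallyClosed.algebraMap_eq_of_integral (hz.tower_top (A := N'))
  have hcB : IsIntegral B c := by
    rw [← isIntegral_algebraMap_iff (IsFractionRing.injective N' K), hc]
    exact hz
  obtain ⟨d, rfl⟩ := hint c hcB
  refine ⟨d, hφi (IsFractionRing.injective N' K ?_)⟩
  rw [map_mul, map_mul, hc, mul_div_cancel₀ _ hb']

/-- A normal ring is integrally closed in its rings of fractions. -/
theorem isIntegrallyClosedIn_of_isLocalization {R N : Type u} [CommRing R] [CommRing N] [Algebra R N]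
    (S : Submonoid R) [IsLocalization S N] (hS : S ≤ nonZeroDivisors R) (h : IsNormalRing R) :
    IsIntegrallyClosedIn R N := by
  refine isIntegrallyClosedIn_iff.mpr ⟨IsLocalization.injective N hS, fun {x} hx => ?_⟩
  obtain ⟨⟨a, ⟨s, hs⟩⟩, hxs⟩ := IsLocalization.surj S x
  simp only at hxs
  let J : Ideal R := (Ideal.span {s}).colon {a}
  suffices J = ⊤ by
    obtain ⟨c, hc⟩ := Ideal.mem_span_singleton'.mp (by
      simpa [J, Submodule.mem_colon_singleton] using (Ideal.eq_top_iff_one J).mp this)
    refine ⟨c, (IsLocalization.map_units N (⟨s, hs⟩ : S)).mul_right_cancel ?_⟩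
    rw [hxs, ← map_mul, hc]
  by_contra hJ
  obtain ⟨m, hm, hle⟩ := Ideal.exists_le_maximal J hJ
  haveI := (h m).1
  haveI := (h m).2
  let B := Localization.AtPrime m
  let K := FractionRing B
  let ι : R →+* K := (algebraMap B K).comp (algebraMap R B)
  have hunit : ∀ t : S, IsUnit (ι t) := fun t => by
    rw [isUnit_iff_ne_zero, RingHom.comp_apply, map_ne_zero_iff _ (IsFractionRing.injective B K)]
    intro h0
    obtain ⟨⟨c, hc⟩, hct⟩ := (IsLocalization.map_eq_zero_iff m.primeCompl B _).mp h0
    exact hc ((mem_nonZeroDivisors_iff_right.mp (hS t.2)) c hct ▸ m.zero_mem)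
  let ψ : N →+* K := IsLocalization.lift hunit
  have hψ : ∀ r, ψ (algebraMap R N r) = ι r := fun r => IsLocalization.lift_eq hunit r
  obtain ⟨p, hp, hpx⟩ := hx
  have hint : IsIntegral B (ψ x) := by
    refine ⟨p.map (algebraMap R B), hp.map _, ?_⟩
    rw [Polynomial.eval₂_map]
    have h1 := Polynomial.hom_eval₂ p (algebraMap R N) ψ x
    rw [hpx, map_zero, show ψ.comp (algebraMap R N) = ι from RingHom.ext hψ] at h1
    exact h1.symm
  obtain ⟨y, hy⟩ := IsIntegrallyClosed.algebraMap_eq_of_integral hint
  obtain ⟨⟨c, t⟩, hct⟩ := IsLocalization.surj m.primeCompl y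
  have h2 : algebraMap R B ((t : R) * a) = algebraMap R B (c * s) := by
    apply IsFractionRing.injective B K
    change ι ((t : R) * a) = ι (c * s)
    rw [map_mul, map_mul, ← hψ a, ← hxs, map_mul, hψ, ← hy]
    simp only at hct
    simp only [ι, RingHom.comp_apply, ← hct, map_mul]
    ring
  obtain ⟨⟨e, he⟩, hec⟩ := (IsLocalization.eq_iff_exists m.primeCompl B).mp h2
  refine (m.primeCompl.mul_mem he t.2) (hle ?_)
  simp only [J, Submodule.mem_colon_singleton, smul_eq_mul]
  exact Ideal.mem_span_singleton'.mpr ⟨e * c, by linear_combination -hec⟩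

/-- Normality descends along faithfully flat homomorphisms. -/
theorem isNormalRing_of_faithfullyFlat (R S : Type u) [CommRing R] [CommRing S] [Algebra R S]
    [Module.FaithfullyFlat R S] (h : IsNormalRing S) : IsNormalRing R := by
  intro p _
  obtain ⟨⟨P, hP⟩, hPp⟩ := PrimeSpectrum.comap_surjective_of_faithfullyFlat (B := S) (⟨p, inferInstance⟩ : PrimeSpectrum R)
  haveI := hP
  have hPp' : P.comap (algebraMap R S) = p := congrArg PrimeSpectrum.asIdeal hPp
  haveI : P.LiesOver p := ⟨hPp'.symm⟩
  haveI := (h P).1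
  haveI := (h P).2
  let A := Localization.AtPrime p
  let B := Localization.AtPrime P
  letI := Localization.AtPrime.algebraOfLiesOver p P
  haveI : Module.Flat A B := inferInstance
  haveI : Module.FaithfullyFlat A B := Module.FaithfullyFlat.of_flat_of_isLocalHom
  have hinj : Function.Injective (algebraMap A B) := FaithfulSMul.algebraMap_injective A B
  haveI : IsDomain A := hinj.isDomain
  refine ⟨inferInstance, isIntegrallyClosed_iff_dvd fun a b hb q hq he => ?_⟩
  let K := FractionRing B
  let ι : A →+* K := (algebraMap B K).comp (algebraMap A B)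
  have hb0 : ι b ≠ 0 := by
    rw [RingHom.comp_apply, map_ne_zero_iff _ (IsFractionRing.injective B K), map_ne_zero_iff _ hinj]
    exact hb
  have hint : IsIntegral B (ι a / ι b) := by
    refine ⟨q.map (algebraMap A B), hq.map _, ?_⟩
    rw [Polynomial.eval₂_map]
    have h1 : Polynomial.eval₂ ι (ι a) (q.scaleRoots b) = 0 := by
      rw [Polynomial.eval₂_at_apply, he, map_zero]
    rw [← mul_div_cancel₀ (ι a) hb0, scaleRoots_eval₂_mul] at h1
    exact (mul_eq_zero.mp h1).resolve_left (pow_ne_zero _ hb0)
  obtain ⟨y, hy⟩ := IsIntegrallyClosed.algebraMap_eq_of_integral hint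
  have h2 : algebraMap A B a ∈ (Ideal.span {b}).map (algebraMap A B) := by
    rw [Ideal.map_span, Set.image_singleton]
    refine Ideal.mem_span_singleton'.mpr ⟨y, IsFractionRing.injective B K ?_⟩
    rw [map_mul, hy]
    exact div_mul_cancel₀ _ hb0
  have h3 : a ∈ ((Ideal.span {b}).map (algebraMap A B)).comap (algebraMap A B) := h2
  rw [Ideal.comap_map_eq_self_of_faithfullyFlat] at h3
  exact Ideal.mem_span_singleton.mp h3

theorem isNormalRing_polynomial (R : Type u) [CommRing R] (hR : IsNormalRing R) : IsNormalRing (Polynomial R) := by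
  intro P _
  let q := P.comap Polynomial.C
  obtain ⟨hd, hn⟩ := hR q
  let S := Polynomial (Localization.AtPrime q)
  let pc := Submonoid.map (Polynomial.C (R := R)).toMonoidHom q.primeCompl
  let : Algebra (Polynomial R) S := Polynomial.algebra R (Localization.AtPrime q)
  have : IsLocalization pc S := Polynomial.isLocalization _ _
  let pS := P.map (algebraMap (Polynomial R) S)
  have disj : Disjoint (pc : Set (Polynomial R)) (P : Set (Polynomial R)) := by
    simpa [pc, q] using! Set.disjoint_image_left.mpr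
      (Set.disjoint_compl_left_iff_subset.mpr (fun _ a ↦ a))
  have : pS.IsPrime := IsLocalization.isPrime_of_isPrime_disjoint pc _ _ ‹_› disj
  have : IsLocalization.AtPrime (Localization.AtPrime pS) P := by
    convert IsLocalization.isLocalization_isLocalization_atPrime_isLocalization pc
      (Localization.AtPrime pS) pS
    exact (IsLocalization.under_map_of_isPrime_disjoint pc _ ‹_› disj).symm
  let e := (IsLocalization.algEquiv P.primeCompl
    (Localization.AtPrime pS) (Localization.AtPrime P)).toRingEquiv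
  have : IsIntegrallyClosed (Localization.AtPrime pS) :=
    isIntegrallyClosed_of_isLocalization _ pS.primeCompl pS.primeCompl_le_nonZeroDivisors
  haveI hdom : IsDomain (Localization.AtPrime P) := MulEquiv.isDomain (Localization.AtPrime pS) e.symm.toMulEquiv
  refine ⟨hdom, ?_⟩
  exact IsIntegrallyClosed.of_equiv (R := Localization.AtPrime pS) e

theorem le_nonZeroDivisors_of_injective {R N : Type u} [CommRing R] [CommRing N] [Algebra R N]
    (S : Submonoid R) [IsLocalization S N] (hinj : Function.Injective (algebraMap R N)) :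
    S ≤ nonZeroDivisors R := fun s hs => mem_nonZeroDivisors_iff_right.mpr fun x hx => hinj (by
  rw [map_zero]
  refine (IsLocalization.map_units N (⟨s, hs⟩ : S)).mul_left_eq_zero.mp ?_
  rw [← map_mul, hx, map_zero])

theorem isNormalRing_of_forall_localization {R : Type u} [CommRing R]
    (h : ∀ Q : Ideal R, Q.IsPrime → ∃ (M : Submonoid R) (D : Type u) (_ : CommRing D) (_ : Algebra R D),
      IsLocalization M D ∧ Disjoint (M : Set R) (Q : Set R) ∧ IsNormalRing D) : IsNormalRing R := by
  intro Q hQ
  obtain ⟨M, D, _, _, hloc, hdis, hD⟩ := h Q hQ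
  haveI := IsLocalization.isPrime_of_isPrime_disjoint M D Q hQ hdis
  let Q' := Q.map (algebraMap R D)
  have hc : Q'.comap (algebraMap R D) = Q := IsLocalization.under_map_of_isPrime_disjoint M D hQ hdis
  haveI : IsLocalization.AtPrime (Localization.AtPrime Q') (Q'.comap (algebraMap R D)) :=
    IsLocalization.isLocalization_isLocalization_atPrime_isLocalization M (Localization.AtPrime Q') Q'
  haveI : IsLocalization.AtPrime (Localization.AtPrime Q') Q := by simpa only [hc]
  let e := (IsLocalization.algEquiv Q.primeCompl (Localization.AtPrime Q') (Localization.AtPrime Q)).toRingEquiv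
  haveI := (hD Q').1
  haveI := (hD Q').2
  haveI : IsDomain (Localization.AtPrime Q) := e.symm.injective.isDomain
  exact ⟨inferInstance, IsIntegrallyClosed.of_equiv e⟩

end Groth.Agent.NormalTensor
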