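import Groth.Agent.NormalTensor.Reduced
import Groth.Agent.NagataCompleteLib.Unramified
import Groth.Agent.RegLocal.Completion

/-!
Finiteness of normalisations for local rings with geometrically normal formal fibres.
-/

set_option autoImplicit false
set_option linter.style.haveILetI false

universe u

open TensorProduct IsLocalRing

namespace Groth.Agent.NormalTensor

theorem isN2_of_surjective {R C : Type u} [CommRing R] [IsLocalRing R] [IsNoetherianRing R]
    [IsAdicComplete (maximalIdeal R) R] [CommRing C] [IsDomain C] (g : R →+* C) (hg : Function.Surjective g) :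
    CAlg.IsN2 C := by
  letI := g.toAlgebra
  exact NagataCompleteLib.isN2_quot_complete (R := R) C hg

variable (A : Type u) [CommRing A] [IsNoetherianRing A] [IsLocalRing A]

theorem fieldNormal_completion (hA : EGA4.HasGeomNormalFormalFibres A) :
    FieldNormal A (EGA4.Cpl A) := by
  haveI := RegLocal.faithfullyFlat_completion A _ (maximalIdeal.isMaximal A).ne_top
  exact fieldNormal_of_isNormalHom ⟨inferInstance, hA⟩

theorem finite_integralClosure_finiteExtension (hA : EGA4.HasGeomNormalFormalFibres A) (p : Ideal A) [p.IsPrime]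
    (L : Type u) [Field L] [Algebra (A ⧸ p) L] [Algebra (FractionRing (A ⧸ p)) L]
    [IsScalarTower (A ⧸ p) (FractionRing (A ⧸ p)) L] [FiniteDimensional (FractionRing (A ⧸ p)) L] :
    Module.Finite (A ⧸ p) (integralClosure (A ⧸ p) L) := by
  haveI := RegLocal.faithfullyFlat_completion A _ (maximalIdeal.isMaximal A).ne_top
  haveI := RegLocal.isLocalRing_completion A (maximalIdeal A) (maximalIdeal.isMaximal A).ne_top
  haveI : IsNoetherianRing (EGA4.Cpl A) := RegLocal.isNoetherianRing_completion A _
  let C := EGA4.Cpl A
  let A1 := A ⧸ p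
  let B := A1 ⊗[A] C
  let K := FractionRing A1
  haveI : Module.FaithfullyFlat A1 B := inferInstance
  have hsurj : Function.Surjective (Algebra.TensorProduct.includeRight (R := A) (A := A1) (B := C)) := by
    intro z
    induction z using TensorProduct.induction_on with
    | zero => exact ⟨0, map_zero _⟩
    | tmul a c =>
      obtain ⟨a, rfl⟩ := Ideal.Quotient.mk_surjective a
      refine ⟨a • c, ?_⟩
      rw [Algebra.TensorProduct.includeRight_apply, TensorProduct.tmul_smul, TensorProduct.smul_tmul']
      congr 1
      exact (Algebra.smul_def a (1 : A1)).trans (mul_one _)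
    | add a b ha hb =>
      obtain ⟨a', rfl⟩ := ha
      obtain ⟨b', rfl⟩ := hb
      exact ⟨a' + b', map_add _ _ _⟩
  haveI : IsNoetherianRing B := isNoetherianRing_of_surjective C B
    (Algebra.TensorProduct.includeRight (R := A) (A := A1) (B := C)).toRingHom hsurj
  have hJ : ∀ (q : Ideal B) [q.IsPrime], q ∈ minimalPrimes B → CAlg.IsN2 (B ⧸ q) := by
    intro q _ _
    haveI : IsAdicComplete (maximalIdeal C) C := inferInstance
    exact isN2_of_surjective ((Ideal.Quotient.mk q).comp
      (Algebra.TensorProduct.includeRight (R := A) (A := A1) (B := C)).toRingHom)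
      (Ideal.Quotient.mk_surjective.comp hsurj)
  letI : Algebra A L := ((algebraMap A1 L).comp (algebraMap A A1)).toAlgebra
  haveI : IsScalarTower A A1 L := IsScalarTower.of_algebraMap_eq fun _ => rfl
  haveI : IsReduced (B ⊗[A1] L) := by
    haveI := isReduced_of_isNormalRing (fieldNormal_completion A hA L)
    let e : B ⊗[A1] L ≃+* C ⊗[A] L :=
      (Algebra.TensorProduct.comm A1 B L).toRingEquiv.trans
        ((Algebra.TensorProduct.cancelBaseChange A A1 L L C).toRingEquiv.trans
          (Algebra.TensorProduct.comm A L C).toRingEquiv)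
    exact isReduced_of_injective e e.injective
  exact NagataCompleteLib.finite_integralClosure_of_reduced A1 B hJ L

theorem finite_integralClosure_quotient (hA : EGA4.HasGeomNormalFormalFibres A) (p : Ideal A) [p.IsPrime]
    (L : Type u) [Field L] [Algebra (A ⧸ p) L] [IsFractionRing (A ⧸ p) L] :
    Module.Finite (A ⧸ p) (integralClosure (A ⧸ p) L) := by
  let K := FractionRing (A ⧸ p)
  let ψ : K ≃ₐ[A ⧸ p] L := FractionRing.algEquiv (A ⧸ p) L
  letI : Algebra K L := ψ.toRingHom.toAlgebra
  haveI : IsScalarTower (A ⧸ p) K L := IsScalarTower.of_algebraMap_eq fun x => (ψ.commutes x).symm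
  haveI : Module.Finite K L := Module.Finite.of_surjective (Algebra.linearMap K L) ψ.surjective
  exact finite_integralClosure_finiteExtension A hA p L

theorem finite_integralClosure_of_geomNormalFormalFibres (hA : EGA4.HasGeomNormalFormalFibres A) [IsReduced A] :
    Module.Finite A (integralClosure A (FractionRing A)) := by
  classical
  haveI : Finite (minimalPrimes A) := (minimalPrimes.finite_of_isNoetherianRing A).to_subtype
  haveI : ∀ p : minimalPrimes A, (p : Ideal A).IsPrime := fun p => p.2.1.1
  let R := FractionRing A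
  let E : minimalPrimes A → Type u := fun p => FractionRing (A ⧸ (p : Ideal A))
  have hu : ∀ (p : minimalPrimes A) (s : nonZeroDivisors A), IsUnit (algebraMap A (E p) s) := fun p s => by
    rw [isUnit_iff_ne_zero, IsScalarTower.algebraMap_apply A (A ⧸ (p : Ideal A)) (E p),
      map_ne_zero_iff _ (IsFractionRing.injective _ (E p)), ne_eq, Ideal.Quotient.algebraMap_eq,
      Ideal.Quotient.eq_zero_iff_mem]
    exact fun hs => Set.disjoint_left.mp (Ideal.disjoint_nonZeroDivisors_of_mem_minimalPrimes p.2) hs s.2
  let g : (p : minimalPrimes A) → R →ₐ[A] E p := fun p =>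
    IsLocalization.liftAlgHom (M := nonZeroDivisors A) (f := Algebra.ofId A (E p)) (hu p)
  haveI : ∀ p : minimalPrimes A, IsNoetherian A (integralClosure (A ⧸ (p : Ideal A)) (E p)) := fun p => by
    haveI := finite_integralClosure_quotient A hA (p : Ideal A) (E p)
    haveI : Module.Finite A (A ⧸ (p : Ideal A)) := Module.Finite.of_surjective
      (Algebra.linearMap A _) Ideal.Quotient.mk_surjective
    haveI : Module.Finite A (integralClosure (A ⧸ (p : Ideal A)) (E p)) := Module.Finite.trans (A ⧸ (p : Ideal A)) _
    exact isNoetherian_of_isNoetherianRing_of_finite _ _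
  let j : integralClosure A R →ₗ[A] ∀ p : minimalPrimes A, integralClosure (A ⧸ (p : Ideal A)) (E p) :=
    LinearMap.pi fun p =>
      { toFun := fun z => ⟨g p z, ((z.2 : IsIntegral A (z : R)).map (g p)).tower_top⟩
        map_add' := fun a b => Subtype.ext (map_add (g p) _ _)
        map_smul' := fun c a => Subtype.ext ((g p).toLinearMap.map_smul c _) }
  refine Module.Finite.of_injective j ((injective_iff_map_eq_zero j).2 fun z hz => Subtype.ext ?_)
  obtain ⟨⟨a, s⟩, has⟩ := IsLocalization.surj (nonZeroDivisors A) (z : R)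
  have ha : a ∈ sInf (minimalPrimes A) := Submodule.mem_sInf.2 fun P hP => by
    haveI := hP.1.1
    have h0 : g ⟨P, hP⟩ (z : R) = 0 := congrArg Subtype.val (congrFun hz ⟨P, hP⟩)
    have h1 := congrArg (g ⟨P, hP⟩) has
    rw [map_mul, h0, zero_mul] at h1
    change 0 = g ⟨P, hP⟩ (algebraMap A R a) at h1
    rw [AlgHom.commutes, IsScalarTower.algebraMap_apply A (A ⧸ P) (E ⟨P, hP⟩)] at h1
    exact Ideal.Quotient.eq_zero_iff_mem.1 (IsFractionRing.injective (A ⧸ P) (E ⟨P, hP⟩)
      (h1.symm.trans (map_zero _).symm))
  rw [minimalPrimes, Ideal.sInf_minimalPrimes] at ha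
  have ha0 : a = 0 := IsReduced.eq_zero a ha
  rw [ha0, map_zero] at has
  exact (IsLocalization.map_units R s).mul_left_eq_zero.mp has

theorem exists_algHom_of_surjective {A R S : Type u} [CommRing A] [CommRing R] [CommRing S] [Algebra A R]
    [Algebra A S] (hR : Function.Surjective (algebraMap A R))
    (hk : RingHom.ker (algebraMap A R) ≤ RingHom.ker (algebraMap A S)) : Nonempty (R →ₐ[A] S) :=
  ⟨{ (algebraMap A R).liftOfSurjective hR ⟨algebraMap A S, hk⟩ with
    commutes' := fun a => RingHom.liftOfRightInverse_comp_apply _ _ _ ⟨algebraMap A S, hk⟩ a }⟩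

theorem finite_integralClosure_red (hA : EGA4.HasGeomNormalFormalFibres A) (R : Type u) [CommRing R]
    [IsReduced R] [Algebra A R] (hR : Function.Surjective (algebraMap A R)) :
    Module.Finite A (integralClosure R (FractionRing R)) := by
  classical
  haveI : IsNoetherianRing R := isNoetherianRing_of_surjective A R (algebraMap A R) hR
  haveI : Module.Finite A R := Module.Finite.of_surjective (Algebra.linearMap A R) hR
  haveI : Finite (minimalPrimes R) := (minimalPrimes.finite_of_isNoetherianRing R).to_subtype
  haveI : ∀ p : minimalPrimes R, (p : Ideal R).IsPrime := fun p => p.2.1.1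
  let q : minimalPrimes R → Ideal A := fun p => (p : Ideal R).comap (algebraMap A R)
  haveI : ∀ p, (q p).IsPrime := fun p => inferInstanceAs ((p : Ideal R).comap (algebraMap A R)).IsPrime
  let T := FractionRing R
  let E : minimalPrimes R → Type u := fun p => FractionRing (A ⧸ q p)
  have hφ : ∀ p, Nonempty (R →ₐ[A] E p) := fun p => exists_algHom_of_surjective hR fun a ha => by
    rw [RingHom.mem_ker, IsScalarTower.algebraMap_apply A (A ⧸ q p) (E p)]
    rw [Ideal.Quotient.algebraMap_eq, Ideal.Quotient.eq_zero_iff_mem.mpr (show a ∈ q p by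
      show algebraMap A R a ∈ (p : Ideal R)
      rw [RingHom.mem_ker.mp ha]; exact Ideal.zero_mem _), map_zero]
  let φ := fun p => (hφ p).some
  have hzero : ∀ (p : minimalPrimes R) (r : R), φ p r = 0 → r ∈ (p : Ideal R) := fun p r h => by
    obtain ⟨a, rfl⟩ := hR r
    rw [AlgHom.commutes, IsScalarTower.algebraMap_apply A (A ⧸ q p) (E p)] at h
    exact (show a ∈ q p from
      Ideal.Quotient.eq_zero_iff_mem.1 (IsFractionRing.injective (A ⧸ q p) (E p) (h.trans (map_zero _).symm)))
  have hu : ∀ (p : minimalPrimes R) (s : nonZeroDivisors R), IsUnit (φ p s) := fun p s =>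
    isUnit_iff_ne_zero.mpr fun h0 =>
      Set.disjoint_left.mp (Ideal.disjoint_nonZeroDivisors_of_mem_minimalPrimes p.2) (hzero p s h0) s.2
  let g : (p : minimalPrimes R) → T →ₐ[A] E p := fun p =>
    IsLocalization.liftAlgHom (M := nonZeroDivisors R) (f := φ p) (hu p)
  haveI : ∀ p : minimalPrimes R, IsNoetherian A (integralClosure (A ⧸ q p) (E p)) := fun p => by
    haveI := finite_integralClosure_quotient A hA (q p) (E p)
    haveI : Module.Finite A (A ⧸ q p) := Module.Finite.of_surjective
      (Algebra.linearMap A _) Ideal.Quotient.mk_surjective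
    haveI : Module.Finite A (integralClosure (A ⧸ q p) (E p)) := Module.Finite.trans (A ⧸ q p) _
    exact isNoetherian_of_isNoetherianRing_of_finite _ _
  haveI : Algebra.IsIntegral A R := Algebra.IsIntegral.of_finite A R
  let j : integralClosure R T →ₗ[A] ∀ p : minimalPrimes R, integralClosure (A ⧸ q p) (E p) :=
    LinearMap.pi fun p =>
      { toFun := fun z => ⟨g p z, (((isIntegral_trans (R := A) (A := R) (z : T) z.2)).map (g p)).tower_top⟩
        map_add' := fun a b => Subtype.ext (map_add (g p) _ _)
        map_smul' := fun c a => Subtype.ext ((g p).toLinearMap.map_smul c _) }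
  refine Module.Finite.of_injective j ((injective_iff_map_eq_zero j).2 fun z hz => Subtype.ext ?_)
  obtain ⟨⟨a, s⟩, has⟩ := IsLocalization.surj (nonZeroDivisors R) (z : T)
  have ha : a ∈ sInf (minimalPrimes R) := Submodule.mem_sInf.2 fun P hP => by
    have h0 : g ⟨P, hP⟩ (z : T) = 0 := congrArg Subtype.val (congrFun hz ⟨P, hP⟩)
    have h1 := congrArg (g ⟨P, hP⟩) has
    rw [map_mul, h0, zero_mul] at h1
    refine hzero ⟨P, hP⟩ a (h1.trans ?_).symm
    simp [g]
  rw [minimalPrimes, Ideal.sInf_minimalPrimes] at ha
  have ha0 : a = 0 := IsReduced.eq_zero a ha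
  rw [ha0, map_zero] at has
  exact (IsLocalization.map_units T s).mul_left_eq_zero.mp has

end Groth.Agent.NormalTensor
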