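import Groth.Agent.NormalTensor.NormRed
import Groth.Agent.EtLocalLib.Completion
import Groth.Prelude.Def_Brnch
import Mathlib.RingTheory.AdicCompletion.LocalRing

/-!
Branches of a local ring with geometrically normal formal fibres and of its completion.
-/

set_option autoImplicit false
set_option linter.style.haveILetI false

universe u

open TensorProduct IsLocalRing

namespace Groth.Agent.NormalTensor

open EGA4 (IsNormalRing)

/-- The canonical map to the normalisation of the reduction. -/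
noncomputable def toNormRed (A : Type u) [CommRing A] : A →+* CAlg2.normRed A :=
  (algebraMap (CAlg2.red A) (CAlg2.normRed A)).comp (Ideal.Quotient.mk (nilradical A))

theorem toResidue_eq (A : Type u) [CommRing A] (M : MaximalSpectrum (CAlg2.normRed A)) (a : A) :
    Brnch.toResidue A M a = Ideal.Quotient.mk M.asIdeal (toNormRed A a) := rfl

variable (A : Type u) [CommRing A] [IsNoetherianRing A] [IsLocalRing A]

theorem exists_normRed_hom (hA : EGA4.HasGeomNormalFormalFibres A) :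
    IsNormalRing (CAlg2.normRed (EGA4.Cpl A)) ∧
    (letI := (toNormRed (EGA4.Cpl A)).toAlgebra; Module.Finite (EGA4.Cpl A) (CAlg2.normRed (EGA4.Cpl A))) ∧
    ∃ k : CAlg2.normRed A →+* CAlg2.normRed (EGA4.Cpl A),
      Function.Injective k ∧
      (∀ a, k (toNormRed A a) = toNormRed (EGA4.Cpl A) (algebraMap A (EGA4.Cpl A) a)) ∧
      (∀ M : Ideal (CAlg2.normRed (EGA4.Cpl A)), M.IsMaximal →
        (∀ y ∈ maximalIdeal (EGA4.Cpl A), toNormRed _ y ∈ M) ∧
        (M.comap k).IsMaximal ∧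
        Function.Surjective ((Ideal.Quotient.mk M).comp k)) ∧
      (∀ M₁ M₂ : Ideal (CAlg2.normRed (EGA4.Cpl A)), M₁.IsMaximal → M₂.IsMaximal →
        M₁.comap k = M₂.comap k → M₁ = M₂) ∧
      (∀ n : Ideal (CAlg2.normRed A), n.IsMaximal →
        ∃ M : Ideal (CAlg2.normRed (EGA4.Cpl A)), M.IsMaximal ∧ M.comap k = n) := by
  let Â := EGA4.Cpl A
  haveI : Module.FaithfullyFlat A Â :=
    RegLocal.faithfullyFlat_completion A _ (maximalIdeal.isMaximal A).ne_top
  let R' := CAlg2.normRed A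
  obtain ⟨hN, hfin, e, he⟩ := exists_normRed_completion_equiv A hA
  let X := Â ⊗[A] R'
  letI : Algebra Â (CAlg2.normRed Â) := (toNormRed Â).toAlgebra
  let eA : X ≃ₐ[Â] CAlg2.normRed Â := AlgEquiv.ofRingEquiv (f := e.symm) fun y => by
    rw [RingEquiv.symm_apply_eq]
    exact ((Algebra.TensorProduct.algebraMap_apply y).trans (he y).symm)
  haveI : Module.Finite Â X := inferInstance
  haveI hfinN : Module.Finite Â (CAlg2.normRed Â) := Module.Finite.equiv eA.toLinearEquiv
  haveI : Algebra.IsIntegral Â (CAlg2.normRed Â) := Algebra.IsIntegral.of_finite _ _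
  haveI : Algebra.IsIntegral A R' := Algebra.IsIntegral.of_finite _ _
  let k : R' →+* CAlg2.normRed Â :=
    eA.toRingEquiv.toRingHom.comp (Algebra.TensorProduct.includeRight : R' →ₐ[A] X).toRingHom
  have hk : ∀ r, k r = eA (1 ⊗ₜ r) := fun r => rfl
  have hsmul : ∀ a : A, toNormRed A a = algebraMap A R' a := fun a =>
    (IsScalarTower.algebraMap_apply A (CAlg2.red A) R' a).symm
  have hev : Function.Surjective (AdicCompletion.evalOneₐ (maximalIdeal A)) :=
    AdicCompletion.evalOneₐ_surjective _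
  have hsplit : ∀ y : Â, ∃ a : A, y - algebraMap A Â a ∈ maximalIdeal Â := fun y => by
    obtain ⟨a, ha⟩ := Ideal.Quotient.mk_surjective (AdicCompletion.evalOneₐ (maximalIdeal A) y)
    refine ⟨a, ?_⟩
    have hker : RingHom.ker (AdicCompletion.evalOneₐ (maximalIdeal A)).toRingHom = maximalIdeal Â := by
      letI : Field (A ⧸ maximalIdeal A) := Ideal.Quotient.field _
      exact IsLocalRing.eq_maximalIdeal (RingHom.ker_isMaximal_of_surjective _ hev)
    rw [← hker, RingHom.mem_ker]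
    show AdicCompletion.evalOneₐ (maximalIdeal A) (y - algebraMap A Â a) = 0
    rw [map_sub, AlgHom.commutes, ← ha]
    exact sub_self _
  have hMmem : ∀ M : Ideal (CAlg2.normRed Â), M.IsMaximal →
      ∀ y ∈ maximalIdeal Â, toNormRed Â y ∈ M := fun M hM y hy => by
    haveI := hM
    have h1 : (M.comap (algebraMap Â (CAlg2.normRed Â))).IsMaximal :=
      Ideal.isMaximal_comap_of_isIntegral_of_isMaximal M
    rw [← IsLocalRing.eq_maximalIdeal h1] at hy
    exact hy
  -- modulo a maximal ideal everything comes from `R'`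
  have hdec : ∀ M : Ideal (CAlg2.normRed Â), M.IsMaximal → ∀ z : X, ∃ r : R',
      ∀ M' : Ideal (CAlg2.normRed Â), M'.IsMaximal → eA z - k r ∈ M' := fun M hM z => by
    induction z using TensorProduct.induction_on with
    | zero => exact ⟨0, fun M' _ => by simp⟩
    | tmul y x =>
      obtain ⟨a, ha⟩ := hsplit y
      refine ⟨a • x, fun M' hM' => ?_⟩
      have h1 : y ⊗ₜ[A] x - (1 : Â) ⊗ₜ (a • x) =
          algebraMap Â X (y - algebraMap A Â a) * ((1 : Â) ⊗ₜ x) := by
        rw [Algebra.TensorProduct.algebraMap_apply, Algebra.TensorProduct.tmul_mul_tmul, mul_one,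
          Algebra.algebraMap_self_apply, one_mul, TensorProduct.sub_tmul, ← TensorProduct.smul_tmul,
          Algebra.algebraMap_eq_smul_one]
      rw [hk, ← map_sub, h1, map_mul, AlgEquiv.commutes]
      exact M'.mul_mem_right _ (hMmem M' hM' _ ha)
    | add z w hz hw =>
      obtain ⟨r, hr⟩ := hz
      obtain ⟨s, hs⟩ := hw
      exact ⟨r + s, fun M' hM' => by
        rw [map_add, map_add, add_sub_add_comm]; exact M'.add_mem (hr M' hM') (hs M' hM')⟩
  have hsurj : ∀ M : Ideal (CAlg2.normRed Â), M.IsMaximal →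
      Function.Surjective ((Ideal.Quotient.mk M).comp k) := fun M hM w => by
    obtain ⟨v, rfl⟩ := Ideal.Quotient.mk_surjective w
    obtain ⟨r, hr⟩ := hdec M hM (eA.symm v)
    refine ⟨r, (Ideal.Quotient.eq.mpr ?_).symm⟩
    have := hr M hM
    rwa [AlgEquiv.apply_symm_apply] at this
  refine ⟨isNormalRing_of_ringEquiv e.symm hN, hfinN, k, ?_, ?_, fun M hM => ⟨hMmem M hM, ?_, hsurj M hM⟩, ?_, ?_⟩
  · exact eA.injective.comp (Module.FaithfullyFlat.tensorProduct_mk_injective (A := A) (B := Â) R')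
  · intro a
    rw [hk, hsmul]
    show eA ((1 : Â) ⊗ₜ[A] algebraMap A R' a) = algebraMap Â (CAlg2.normRed Â) (algebraMap A Â a)
    rw [← AlgEquiv.commutes eA, Algebra.TensorProduct.algebraMap_apply,
      Algebra.algebraMap_eq_smul_one, ← TensorProduct.smul_tmul, Algebra.algebraMap_self_apply,
      Algebra.algebraMap_eq_smul_one]
  · haveI := hM
    letI := Ideal.Quotient.field M
    have : M.comap k = RingHom.ker ((Ideal.Quotient.mk M).comp k) := by
      rw [← RingHom.comap_ker, Ideal.mk_ker]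
    rw [this]
    exact RingHom.ker_isMaximal_of_surjective _ (hsurj M hM)
  · intro M₁ M₂ h₁ h₂ h
    refine h₁.eq_of_le h₂.ne_top fun v hv => ?_
    obtain ⟨r, hr⟩ := hdec M₁ h₁ (eA.symm v)
    have e₁ := hr M₁ h₁
    have e₂ := hr M₂ h₂
    rw [AlgEquiv.apply_symm_apply] at e₁ e₂
    have hr₁ : r ∈ M₁.comap k := by
      rw [Ideal.mem_comap]
      simpa using M₁.sub_mem hv e₁
    rw [h, Ideal.mem_comap] at hr₁
    simpa using M₂.add_mem e₂ hr₁
  · intro n hn
    haveI := hn
    have h1 : (n.comap (algebraMap A R')).IsMaximal := Ideal.isMaximal_comap_of_isIntegral_of_isMaximal n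
    have h2 : maximalIdeal A ≤ n.comap (algebraMap A R') := (IsLocalRing.eq_maximalIdeal h1).ge
    let π : Â →ₐ[A] R' ⧸ n := (Ideal.Quotient.liftₐ (maximalIdeal A) (Algebra.ofId A (R' ⧸ n))
      (fun a ha => (Ideal.Quotient.eq_zero_iff_mem (I := n) (a := algebraMap A R' a)).mpr (h2 ha))).comp
        (AdicCompletion.evalOneₐ (maximalIdeal A))
    let Φ : X →ₐ[A] R' ⧸ n :=
      Algebra.TensorProduct.lift π (Ideal.Quotient.mkₐ A n)
        fun x y => (mul_comm (π x) (Ideal.Quotient.mkₐ A n y) : _)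
    have hΦ : ∀ r : R', Φ (1 ⊗ₜ r) = Ideal.Quotient.mk n r := fun r => by
      show π 1 * Ideal.Quotient.mkₐ A n r = _
      rw [map_one, one_mul]; rfl
    let Ψ : CAlg2.normRed Â →+* R' ⧸ n := Φ.toRingHom.comp eA.symm.toRingEquiv.toRingHom
    have hΨ : ∀ r, Ψ (k r) = Ideal.Quotient.mk n r := fun r => by
      show Φ (eA.symm (k r)) = _
      rw [hk, AlgEquiv.symm_apply_apply, hΦ]
    letI := Ideal.Quotient.field n
    have hΨs : Function.Surjective Ψ := fun w => by
      obtain ⟨r, rfl⟩ := Ideal.Quotient.mk_surjective w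
      exact ⟨k r, hΨ r⟩
    refine ⟨RingHom.ker Ψ, RingHom.ker_isMaximal_of_surjective _ hΨs, ?_⟩
    ext r
    rw [Ideal.mem_comap, RingHom.mem_ker, hΨ, Ideal.Quotient.eq_zero_iff_mem]

/-- Maximal ideals and residue fields of the two normalisations correspond. -/
theorem exists_branch_equiv (hA : EGA4.HasGeomNormalFormalFibres A) :
    ∃ Φ : MaximalSpectrum (CAlg2.normRed (EGA4.Cpl A)) ≃ MaximalSpectrum (CAlg2.normRed A),
      ∀ M, ∃ θ : (CAlg2.normRed A ⧸ (Φ M).asIdeal) ≃+* (CAlg2.normRed (EGA4.Cpl A) ⧸ M.asIdeal),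
        (∀ a, θ (Brnch.toResidue A (Φ M) a) =
          Brnch.toResidue (EGA4.Cpl A) M (algebraMap A (EGA4.Cpl A) a)) ∧
        ∀ y ∈ maximalIdeal (EGA4.Cpl A), Brnch.toResidue (EGA4.Cpl A) M y = 0 := by
  obtain ⟨-, -, k, -, hk, hM, hinj, hsurj⟩ := exists_normRed_hom A hA
  let F : MaximalSpectrum (CAlg2.normRed (EGA4.Cpl A)) → MaximalSpectrum (CAlg2.normRed A) := fun M =>
    ⟨M.asIdeal.comap k, (hM _ M.isMaximal).2.1⟩
  have hF : Function.Bijective F := by
    refine ⟨fun M₁ M₂ h => MaximalSpectrum.ext (hinj _ _ M₁.isMaximal M₂.isMaximal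
      (congrArg MaximalSpectrum.asIdeal h)), fun n => ?_⟩
    obtain ⟨M, h1, h2⟩ := hsurj n.asIdeal n.isMaximal
    exact ⟨⟨M, h1⟩, MaximalSpectrum.ext h2⟩
  refine ⟨Equiv.ofBijective F hF, fun M => ?_⟩
  let θ₀ : (CAlg2.normRed A ⧸ M.asIdeal.comap k) →+* (CAlg2.normRed (EGA4.Cpl A) ⧸ M.asIdeal) :=
    Ideal.quotientMap M.asIdeal k le_rfl
  have hθ : Function.Bijective θ₀ := by
    refine ⟨Ideal.quotientMap_injective, fun w => ?_⟩
    obtain ⟨r, hr⟩ := (hM _ M.isMaximal).2.2 w
    exact ⟨Ideal.Quotient.mk _ r, (Ideal.quotientMap_mk).trans hr⟩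
  refine ⟨RingEquiv.ofBijective θ₀ hθ, fun a => ?_, fun y hy =>
    Ideal.Quotient.eq_zero_iff_mem.mpr ((hM _ M.isMaximal).1 y hy)⟩
  show θ₀ (Ideal.Quotient.mk _ (toNormRed A a)) = _
  rw [toResidue_eq, ← hk a]
  exact Ideal.quotientMap_mk

theorem exists_sub_algebraMap_mem (y : EGA4.Cpl A) :
    ∃ a : A, y - algebraMap A (EGA4.Cpl A) a ∈ maximalIdeal (EGA4.Cpl A) := by
  obtain ⟨x, hx⟩ := (EtLocalLib.bijective_residueField_completion (A := A)).2 (residue _ y)
  obtain ⟨a, rfl⟩ := residue_surjective x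
  refine ⟨a, ?_⟩
  rw [← residue_eq_zero_iff, map_sub, ← hx, ResidueField.map_residue, sub_self]

theorem numBranches_completion (hA : EGA4.HasGeomNormalFormalFibres A) :
    Brnch.numBranches (EGA4.Cpl A) = Brnch.numBranches A := by
  obtain ⟨Φ, -⟩ := exists_branch_equiv A hA
  unfold Brnch.numBranches
  rw [if_pos (minimalPrimes.finite_of_isNoetherianRing _),
    if_pos (minimalPrimes.finite_of_isNoetherianRing _)]
  exact ENat.card_congr Φ

theorem numGeomBranches_completion (hA : EGA4.HasGeomNormalFormalFibres A) :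
    Brnch.numGeomBranches (EGA4.Cpl A) = Brnch.numGeomBranches A := by
  obtain ⟨Φ, hΦ⟩ := exists_branch_equiv A hA
  choose θ hθ h0 using hΦ
  let ψ : ResidueField A ≃+* ResidueField (EGA4.Cpl A) :=
    RingEquiv.ofBijective _ (EtLocalLib.bijective_residueField_completion (A := A))
  let ι : AlgebraicClosure (ResidueField A) ≃+* AlgebraicClosure (ResidueField (EGA4.Cpl A)) :=
    IsAlgClosure.equivOfEquiv _ _ ψ
  have hι : ∀ a, ι (Brnch.toClosure A a) =
      Brnch.toClosure (EGA4.Cpl A) (algebraMap A (EGA4.Cpl A) a) := fun a => by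
    show ι (algebraMap (ResidueField A) _ (residue A a)) = _
    rw [IsAlgClosure.equivOfEquiv_algebraMap]
    rfl
  have h0' : ∀ y ∈ maximalIdeal (EGA4.Cpl A), Brnch.toClosure (EGA4.Cpl A) y = 0 := fun y hy => by
    show algebraMap _ _ (residue _ y) = 0
    rw [residue_eq_zero_iff y |>.mpr hy, map_zero]
  unfold Brnch.numGeomBranches
  rw [if_pos (minimalPrimes.finite_of_isNoetherianRing _),
    if_pos (minimalPrimes.finite_of_isNoetherianRing _)]
  refine ENat.card_congr (Equiv.sigmaCongr Φ fun M => ?_)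
  refine
    { toFun := fun σ => ⟨(ι.symm.toRingHom.comp σ.1).comp (θ M).toRingHom, RingHom.ext fun a => ?_⟩
      invFun := fun σ => ⟨(ι.toRingHom.comp σ.1).comp (θ M).symm.toRingHom, RingHom.ext fun y => ?_⟩
      left_inv := fun σ => Subtype.ext (RingHom.ext fun w => by simp)
      right_inv := fun σ => Subtype.ext (RingHom.ext fun w => by simp) }
  · show ι.symm (σ.1 (θ M (Brnch.toResidue A (Φ M) a))) = _
    rw [hθ, RingEquiv.symm_apply_eq, hι]
    exact RingHom.congr_fun σ.2 _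
  · obtain ⟨a, ha⟩ := exists_sub_algebraMap_mem A y
    have hy : y = algebraMap A (EGA4.Cpl A) a + (y - algebraMap A (EGA4.Cpl A) a) :=
      (add_sub_cancel _ _).symm
    show ι (σ.1 ((θ M).symm (Brnch.toResidue (EGA4.Cpl A) M y))) = Brnch.toClosure _ y
    rw [hy, map_add, map_add (Brnch.toClosure _), h0 M _ ha, h0' _ ha, add_zero, add_zero, ← hθ,
      RingEquiv.symm_apply_apply, ← hι]
    exact congrArg ι (RingHom.congr_fun σ.2 a)

theorem isUnibranch_completion_iff (hA : EGA4.HasGeomNormalFormalFibres A) :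
    CAlg2.IsUnibranch (EGA4.Cpl A) ↔ CAlg2.IsUnibranch A := by
  obtain ⟨hN, hfin, k, hkinj, -⟩ := exists_normRed_hom A hA
  obtain ⟨Φ, -⟩ := exists_branch_equiv A hA
  have hloc : IsLocalRing (CAlg2.normRed (EGA4.Cpl A)) ↔ IsLocalRing (CAlg2.normRed A) := by
    have key : ∀ (R : Type u) [CommRing R], IsLocalRing R ↔ ∃! M : Ideal R, M.IsMaximal :=
      fun R _ => ⟨fun h => maximal_ideal_unique R, fun h => IsLocalRing.of_unique_max_ideal h⟩
    rw [key, key]
    constructor <;> rintro ⟨M, hM, hu⟩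
    · refine ⟨(Φ ⟨M, hM⟩).asIdeal, (Φ ⟨M, hM⟩).isMaximal, fun n hn => ?_⟩
      have h := hu _ (Φ.symm ⟨n, hn⟩).isMaximal
      have h' : Φ.symm ⟨n, hn⟩ = ⟨M, hM⟩ := MaximalSpectrum.ext h
      exact congrArg MaximalSpectrum.asIdeal ((Equiv.symm_apply_eq Φ).mp h')
    · refine ⟨(Φ.symm ⟨M, hM⟩).asIdeal, (Φ.symm ⟨M, hM⟩).isMaximal, fun n hn => ?_⟩
      have h' : Φ ⟨n, hn⟩ = ⟨M, hM⟩ := MaximalSpectrum.ext (hu _ (Φ ⟨n, hn⟩).isMaximal)
      exact congrArg MaximalSpectrum.asIdeal ((Equiv.eq_symm_apply Φ).mpr h')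
  refine ⟨fun ⟨hd, hl⟩ => ⟨?_, hloc.mp hl⟩, fun ⟨hd, hl⟩ => ⟨?_, hloc.mpr hl⟩⟩
  · haveI : IsDomain (CAlg2.normRed (EGA4.Cpl A)) := inferInstance
    haveI : IsDomain (CAlg2.normRed A) := hkinj.isDomain
    exact Function.Injective.isDomain (f := algebraMap (CAlg2.red A) (CAlg2.normRed A))
      fun _ _ h => IsFractionRing.injective (CAlg2.red A) (FractionRing (CAlg2.red A)) (congrArg Subtype.val h)
  · haveI : IsLocalRing (CAlg2.normRed (EGA4.Cpl A)) := hloc.mpr hl
    haveI : IsDomain (CAlg2.normRed (EGA4.Cpl A)) := isDomain_of_isNormalRing_local hN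
    exact Function.Injective.isDomain
      (f := algebraMap (CAlg2.red (EGA4.Cpl A)) (CAlg2.normRed (EGA4.Cpl A)))
      fun _ _ h => IsFractionRing.injective (CAlg2.red (EGA4.Cpl A))
        (FractionRing (CAlg2.red (EGA4.Cpl A))) (congrArg Subtype.val h)

theorem ringExpChar_eq_of_injective {R S : Type u} [CommRing R] [IsDomain R] [CommRing S] (f : R →+* S)
    (hf : Function.Injective f) : ringExpChar S = ringExpChar R := by
  haveI : ExpChar R (ringExpChar R) := ringExpChar.expChar R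
  haveI : ExpChar S (ringExpChar R) := expChar_of_injective_ringHom hf (ringExpChar R)
  exact ringExpChar.eq S _

theorem isGeomUnibranch_completion_iff (hA : EGA4.HasGeomNormalFormalFibres A) :
    CAlg2.IsGeomUnibranch (EGA4.Cpl A) ↔ CAlg2.IsGeomUnibranch A := by
  obtain ⟨Φ, hΦ⟩ := exists_branch_equiv A hA
  refine and_congr (isUnibranch_completion_iff A hA) ?_
  constructor
  · intro h n hn
    haveI := hn
    obtain ⟨θ, hθ, h0⟩ := hΦ (Φ.symm ⟨n, hn⟩)
    revert θ
    rw [Φ.apply_symm_apply]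
    intro θ hθ x
    haveI := (Φ.symm ⟨n, hn⟩).isMaximal
    haveI : IsDomain (CAlg2.normRed A ⧸ n) := inferInstance
    obtain ⟨i, y, hy⟩ := h (Φ.symm ⟨n, hn⟩).asIdeal (θ x)
    obtain ⟨a, ha⟩ := exists_sub_algebraMap_mem A y
    have hq : ringExpChar (CAlg2.normRed (EGA4.Cpl A) ⧸ (Φ.symm ⟨n, hn⟩).asIdeal) =
        ringExpChar (CAlg2.normRed A ⧸ n) := ringExpChar_eq_of_injective (R := CAlg2.normRed A ⧸ n)
          (S := CAlg2.normRed (EGA4.Cpl A) ⧸ (Φ.symm ⟨n, hn⟩).asIdeal) θ.toRingHom θ.injective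
    refine ⟨i, a, θ.injective ?_⟩
    rw [map_pow, ← hq]
    show θ (Brnch.toResidue A ⟨n, hn⟩ a) = _
    rw [hθ]
    refine Eq.trans ?_ hy
    have := h0 _ ha
    rw [map_sub, sub_eq_zero] at this
    exact this.symm
  · intro h M hM
    haveI := hM
    obtain ⟨θ, hθ, h0⟩ := hΦ ⟨M, hM⟩
    intro x
    haveI := (Φ ⟨M, hM⟩).isMaximal
    obtain ⟨i, a, ha⟩ := h (Φ ⟨M, hM⟩).asIdeal (θ.symm x)
    refine ⟨i, algebraMap A _ a, ?_⟩
    show Brnch.toResidue (EGA4.Cpl A) ⟨M, hM⟩ (algebraMap A _ a) = _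
    have hq : ringExpChar (CAlg2.normRed (EGA4.Cpl A) ⧸ M) =
        ringExpChar (CAlg2.normRed A ⧸ (Φ ⟨M, hM⟩).asIdeal) :=
      ringExpChar_eq_of_injective (R := CAlg2.normRed A ⧸ (Φ ⟨M, hM⟩).asIdeal)
        (S := CAlg2.normRed (EGA4.Cpl A) ⧸ M) θ.toRingHom θ.injective
    rw [← hθ, hq]
    refine (congrArg θ ha).trans ?_
    rw [map_pow, RingEquiv.apply_symm_apply]

theorem henselianLocalRing_completion : HenselianLocalRing (EGA4.Cpl A) :=
  Hensel.henselianRing_maximalIdeal_iff.mp inferInstance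

theorem isDomain_completion_iff (hA : EGA4.HasGeomNormalFormalFibres A) [IsReduced A] :
    IsDomain (EGA4.Cpl A) ↔ CAlg2.IsUnibranch A := by
  haveI : Module.FaithfullyFlat A (EGA4.Cpl A) :=
    RegLocal.faithfullyFlat_completion A _ (maximalIdeal.isMaximal A).ne_top
  haveI : IsReduced (EGA4.Cpl A ⊗[A] A) :=
    isReduced_tensor A (EGA4.Cpl A) (fieldNormal_completion A hA) A
  haveI : IsReduced (EGA4.Cpl A) := isReduced_of_injective
    (Algebra.TensorProduct.rid A A (EGA4.Cpl A)).symm.toRingEquiv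
    (Algebra.TensorProduct.rid A A (EGA4.Cpl A)).symm.injective
  rw [← isUnibranch_completion_iff A hA]
  have hbot : nilradical (EGA4.Cpl A) = ⊥ := nilradical_eq_zero _
  let eq : CAlg2.red (EGA4.Cpl A) ≃+* EGA4.Cpl A :=
    (Ideal.quotEquivOfEq hbot).trans (RingEquiv.quotientBot _)
  constructor
  · intro hd
    haveI : IsDomain (CAlg2.red (EGA4.Cpl A)) := eq.toMulEquiv.isDomain _
    refine ⟨inferInstance, ?_⟩
    haveI := henselianLocalRing_completion A
    obtain ⟨-, hfin, -⟩ := exists_normRed_hom A hA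
    letI := (toNormRed (EGA4.Cpl A)).toAlgebra
    haveI := hfin
    exact isLocalRing_of_finite_domain (EGA4.Cpl A) _
  · rintro ⟨hd, -⟩
    exact eq.symm.toMulEquiv.isDomain _

end Groth.Agent.NormalTensor
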