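import Groth.Agent.NormalTensor.Henselian
import Groth.Prelude.Def_CAlg2

/-!
The normalisation of the completion of a local ring with geometrically normal formal fibres.
-/

set_option autoImplicit false
set_option linter.style.haveILetI false

universe u

open TensorProduct IsLocalRing

namespace Groth.Agent.NormalTensor

open EGA4 (IsNormalRing)

theorem isArtinianRing_fractionRing (R : Type u) [CommRing R] [IsNoetherianRing R] [IsReduced R] :
    IsArtinianRing (FractionRing R) := by
  let T := FractionRing R
  haveI : IsNoetherianRing T := IsLocalization.isNoetherianRing (nonZeroDivisors R) T inferInstance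
  suffices h : Ring.KrullDimLE 0 T from IsNoetherianRing.isArtinianRing_of_krullDimLE_zero
  rw [Ring.krullDimLE_zero_iff]
  intro P hP
  have hsub : ((P.under R : Ideal R) : Set R) ⊆ ⋃ p ∈ minimalPrimes R, (p : Set R) := by
    intro x hx
    rw [minimalPrimes, Ideal.iUnion_minimalPrimes]
    have hx' : x ∉ nonZeroDivisors R := fun h =>
      hP.ne_top (Ideal.eq_top_of_isUnit_mem _ hx (IsLocalization.map_units T (⟨x, h⟩ : nonZeroDivisors R)))
    rw [mem_nonZeroDivisors_iff_right] at hx'
    push Not at hx'
    obtain ⟨y, hy, hy0⟩ := hx'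
    refine ⟨y, fun hmem => hy0 ?_, ?_⟩
    · obtain ⟨n, hn⟩ := Ideal.mem_radical_iff.mp hmem
      exact IsReduced.eq_zero y ⟨n, by simpa using hn⟩
    · rw [mul_comm, hy]; exact Ideal.zero_mem _
  haveI : Finite (minimalPrimes R) := (minimalPrimes.finite_of_isNoetherianRing R).to_subtype
  obtain ⟨p, hp, hle⟩ := (Ideal.subset_union_prime_finite (minimalPrimes.finite_of_isNoetherianRing R)
    ⊥ ⊥ fun i hi _ _ => hi.1.1).mp hsub
  have heq : P.under R = p := le_antisymm hle (hp.2 ⟨inferInstance, bot_le⟩ hle)
  obtain ⟨M, hM, hPM⟩ := Ideal.exists_le_maximal P hP.ne_top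
  haveI := hM.isPrime
  have hsub' : ((M.under R : Ideal R) : Set R) ⊆ ⋃ p ∈ minimalPrimes R, (p : Set R) := by
    intro x hx
    rw [minimalPrimes, Ideal.iUnion_minimalPrimes]
    have hx' : x ∉ nonZeroDivisors R := fun h =>
      hM.ne_top (Ideal.eq_top_of_isUnit_mem _ hx (IsLocalization.map_units T (⟨x, h⟩ : nonZeroDivisors R)))
    rw [mem_nonZeroDivisors_iff_right] at hx'
    push Not at hx'
    obtain ⟨y, hy, hy0⟩ := hx'
    refine ⟨y, fun hmem => hy0 ?_, ?_⟩
    · obtain ⟨n, hn⟩ := Ideal.mem_radical_iff.mp hmem
      exact IsReduced.eq_zero y ⟨n, by simpa using hn⟩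
    · rw [mul_comm, hy]; exact Ideal.zero_mem _
  obtain ⟨p', hp', hle'⟩ := (Ideal.subset_union_prime_finite (minimalPrimes.finite_of_isNoetherianRing R)
    ⊥ ⊥ fun i hi _ _ => hi.1.1).mp hsub'
  have h1 : P.under R ≤ M.under R := Ideal.comap_mono hPM
  have h2 : M.under R = P.under R :=
    le_antisymm (hle'.trans (hp'.2 ⟨inferInstance, bot_le⟩ (h1.trans hle'))) h1
  have h3 : M = P := by
    rw [← IsLocalization.map_under (nonZeroDivisors R) T M, h2, IsLocalization.map_under (nonZeroDivisors R) T P]
  exact h3 ▸ hM

theorem isNormalRing_of_artinian_reduced (T : Type u) [CommRing T] [IsArtinianRing T] [IsReduced T] :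
    IsNormalRing T := fun P _ => by
  haveI : IsArtinianRing (Localization.AtPrime P) :=
    IsArtinianRing.localization_artinian P.primeCompl _
  letI := (IsArtinianRing.isField_of_isReduced_of_isLocalRing (Localization.AtPrime P)).toField
  exact ⟨(inferInstance : IsDomain (Localization.AtPrime P)),
    (inferInstance : IsIntegrallyClosed (Localization.AtPrime P))⟩

/-- A ring of fractions of `R` containing an `R`-algebra `R'` is a ring of fractions of `R'`. -/
theorem isLocalization_intermediate {R R' T : Type u} [CommRing R] [CommRing R'] [CommRing T] [Algebra R R']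
    [Algebra R' T] [Algebra R T] [IsScalarTower R R' T] (M : Submonoid R) [IsLocalization M T]
    (hinj : Function.Injective (algebraMap R' T)) :
    IsLocalization (Algebra.algebraMapSubmonoid R' M) T := by
  refine (isLocalization_iff _ _).mpr ⟨?_, ?_, ?_⟩
  · rintro ⟨_, m, hm, rfl⟩
    show IsUnit (algebraMap R' T (algebraMap R R' m))
    rw [← IsScalarTower.algebraMap_apply]
    exact IsLocalization.map_units T (⟨m, hm⟩ : M)
  · intro z
    obtain ⟨⟨r, m⟩, h⟩ := IsLocalization.surj M z
    refine ⟨⟨algebraMap R R' r, ⟨algebraMap R R' m, ⟨m, m.2, rfl⟩⟩⟩, ?_⟩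
    simp only
    rw [← IsScalarTower.algebraMap_apply, ← IsScalarTower.algebraMap_apply]
    exact h
  · intro x y h
    exact ⟨1, by rw [hinj h]⟩

/-- The normalisation of a reduced Noetherian ring with finite normalisation. -/
theorem normalization_facts (R : Type u) [CommRing R] [IsNoetherianRing R] [IsReduced R]
    [Module.Finite R (integralClosure R (FractionRing R))] :
    IsNoetherianRing (integralClosure R (FractionRing R)) ∧
      IsNormalRing (integralClosure R (FractionRing R)) := by
  let T := FractionRing R
  let R' := integralClosure R T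
  haveI : IsNoetherianRing R' := isNoetherianRing_iff.mpr
    (isNoetherian_of_tower R (isNoetherian_of_isNoetherianRing_of_finite R R'))
  haveI := isArtinianRing_fractionRing R
  haveI : IsReduced T := inferInstanceAs (IsReduced (FractionRing R))
  let M := Algebra.algebraMapSubmonoid R' (nonZeroDivisors R)
  haveI hloc : IsLocalization M T := isLocalization_intermediate _ Subtype.val_injective
  refine ⟨inferInstance, isNormalRing_of_isIntegrallyClosedIn (N := T) M
    (le_nonZeroDivisors_of_injective (N := T) M Subtype.val_injective)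
    (isNormalRing_of_artinian_reduced T) ?_⟩
  infer_instance

end Groth.Agent.NormalTensor
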