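import Groth.Agent.NormalTensor.Basic
import Groth.Agent.DVRCrit.Centre

/-!
Integral elements of a flat base change are detected by discrete valuation rings.
-/

set_option autoImplicit false
set_option linter.style.haveILetI false

universe u

open TensorProduct

namespace Groth.Agent.NormalTensor

/-- A flat base change of a discrete valuation ring with reduced closed fibre is integrally closed
in the base change of the fraction field. -/
theorem mem_range_of_dvr (A A' V L : Type u) [CommRing A] [CommRing A'] [Algebra A A'] [Module.Flat A A']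
    [CommRing V] [IsDomain V] [IsDiscreteValuationRing V] [Algebra A V] [Field L] [Algebra A L]
    [Algebra V L] [IsScalarTower A V L] [IsFractionRing V L]
    (hred : IsReduced (A' ⊗[A] IsLocalRing.ResidueField V)) (x : A' ⊗[A] L)
    (hx : (Algebra.TensorProduct.map (AlgHom.id A A') (IsScalarTower.toAlgHom A V L)).toRingHom.IsIntegralElem x) :
    x ∈ Set.range (Algebra.TensorProduct.map (AlgHom.id A A') (IsScalarTower.toAlgHom A V L)) := by
  obtain ⟨π, hπ⟩ := IsDiscreteValuationRing.exists_irreducible V
  let f := Algebra.TensorProduct.map (AlgHom.id A A') (IsScalarTower.toAlgHom A V L)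
  have hπL : algebraMap V L π ≠ 0 := by
    rw [map_ne_zero_iff _ (IsFractionRing.injective V L)]; exact hπ.ne_zero
  have hu : IsUnit (f (1 ⊗ₜ π)) := by
    refine IsUnit.of_mul_eq_one (1 ⊗ₜ (algebraMap V L π)⁻¹) ?_
    rw [Algebra.TensorProduct.map_tmul, map_one, Algebra.TensorProduct.tmul_mul_tmul, mul_one,
      IsScalarTower.toAlgHom_apply, mul_inv_cancel₀ hπL]
    rfl
  have hfi : Function.Injective f :=
    Module.Flat.lTensor_preserves_injective_linearMap (IsScalarTower.toAlgHom A V L).toLinearMap
      (IsFractionRing.injective V L)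
  have hden : ∀ z : A' ⊗[A] L, ∃ n : ℕ, z * f (1 ⊗ₜ π) ^ n ∈ Set.range f := by
    intro z
    induction z using TensorProduct.induction_on with
    | zero => exact ⟨0, 0, by simp⟩
    | tmul a l =>
      obtain ⟨c, d, hd, rfl⟩ := IsFractionRing.div_surjective (A := V) l
      have hd0 : d ≠ 0 := nonZeroDivisors.ne_zero hd
      obtain ⟨n, u, rfl⟩ := IsDiscreteValuationRing.eq_unit_mul_pow_irreducible hd0 hπ
      refine ⟨n, a ⊗ₜ (c * ↑u⁻¹), ?_⟩
      rw [Algebra.TensorProduct.map_tmul, Algebra.TensorProduct.map_tmul, map_one,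
        Algebra.TensorProduct.tmul_pow, one_pow, Algebra.TensorProduct.tmul_mul_tmul, mul_one,
        AlgHom.id_apply, IsScalarTower.toAlgHom_apply, IsScalarTower.toAlgHom_apply]
      congr 1
      rw [map_mul, map_mul, map_pow, map_units_inv]
      have h1 : algebraMap V L (u : V) ≠ 0 := (u.isUnit.map (algebraMap V L)).ne_zero
      have h2 := pow_ne_zero n hπL
      field_simp
    | add y z hy hz =>
      obtain ⟨n, a, ha⟩ := hy
      obtain ⟨m, b, hb⟩ := hz
      exact ⟨n + m, a * (1 ⊗ₜ π) ^ m + b * (1 ⊗ₜ π) ^ n, by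
        rw [map_add, map_mul, map_mul, ha, hb, map_pow, map_pow, pow_add]; ring⟩
  obtain ⟨n, hn⟩ := hden x
  clear hden
  induction n generalizing x with
  | zero => simpa using hn
  | succ n ih =>
    obtain ⟨y, hy⟩ := hn
    refine ih x hx ?_
    -- `y` is nilpotent on the closed fibre, hence divisible by `π`
    obtain ⟨p, hp, hpx⟩ := hx
    have hd : p.natDegree ≠ 0 ∨ Subsingleton (A' ⊗[A] L) := by
      refine or_iff_not_imp_left.mpr fun h => ?_
      rw [ne_eq, not_not] at h
      rw [Polynomial.eq_one_of_monic_natDegree_zero hp h, Polynomial.eval₂_one] at hpx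
      exact subsingleton_of_zero_eq_one hpx.symm
    rcases hd with hd | hsub
    swap
    · exact ⟨0, Subsingleton.elim _ _⟩
    let r : V →ₐ[A] IsLocalRing.ResidueField V := IsScalarTower.toAlgHom A V _
    let q := Algebra.TensorProduct.map (AlgHom.id A A') r
    have hker : RingHom.ker q = (RingHom.ker r).map (Algebra.TensorProduct.includeRight (R := A) (A := A')) :=
      Algebra.TensorProduct.lTensor_ker r IsLocalRing.residue_surjective
    have hee : (p.scaleRoots ((1 ⊗ₜ π) ^ (n + 1))).eval y = 0 := by
      apply hfi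
      rw [map_zero]
      show f.toRingHom _ = 0
      rw [← Polynomial.eval₂_at_apply]
      show Polynomial.eval₂ f.toRingHom (f y) _ = 0
      rw [hy, mul_comm, ← map_pow]
      exact Polynomial.scaleRoots_eval₂_eq_zero _ hpx
    have hqπ : q ((1 : A') ⊗ₜ[A] π) = 0 := by
      rw [Algebra.TensorProduct.map_tmul, show r π = 0 from
        (IsLocalRing.residue_eq_zero_iff π).mpr hπ.not_isUnit, TensorProduct.tmul_zero]
    -- reduce the relation modulo `π`
    have hmod : q y ^ p.natDegree = 0 := by
      have h0 := congrArg q hee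
      rw [map_zero, Polynomial.eval_eq_sum_range' (n := p.natDegree + 1)
        (by rw [Polynomial.natDegree_scaleRoots]; omega), map_sum, Finset.sum_range_succ,
        Finset.sum_eq_zero] at h0
      · rwa [zero_add, Polynomial.coeff_scaleRoots, hp.coeff_natDegree, Nat.sub_self, pow_zero, mul_one,
          one_mul, map_pow] at h0
      · intro i hi
        rw [Polynomial.coeff_scaleRoots, map_mul, map_mul, map_pow, map_pow, hqπ,
          zero_pow (Nat.succ_ne_zero n), zero_pow (by have := Finset.mem_range.mp hi; omega), mul_zero,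
          zero_mul]
    obtain ⟨z, hz⟩ : ∃ z, z * (1 ⊗ₜ π) = y := by
      have h1 : y ∈ RingHom.ker q := RingHom.mem_ker.mpr (hred.eq_zero _ ⟨p.natDegree, hmod⟩)
      rw [hker, show RingHom.ker r = Ideal.span {π} from
        (IsLocalRing.ker_residue).trans hπ.maximalIdeal_eq, Ideal.map_span, Set.image_singleton,
        Ideal.mem_span_singleton'] at h1
      exact h1
    refine ⟨z, hu.mul_right_cancel ?_⟩
    rw [mul_assoc, ← pow_succ, ← hy, ← hz, map_mul]

/-- An element which is not integral over a localization of a Noetherian domain `B` is omitted by a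
discrete valuation ring containing that localization. -/
theorem exists_dvr_forall_smul_notMem (B K : Type u) [CommRing B] [IsNoetherianRing B]
    [Field K] [Algebra B K] [Algebra.EssFiniteType B K] (p : Ideal B) [p.IsPrime] (z : K)
    (hz : ∀ s ∈ p.primeCompl, ¬ IsIntegral B (algebraMap B K s * z)) :
    ∃ R : ValuationSubring K, IsDiscreteValuationRing R ∧ (∀ b, algebraMap B K b ∈ R) ∧
      ∀ s ∈ p.primeCompl, algebraMap B K s * z ∉ R := by
  classical
  let C := Localization.AtPrime p
  have hne : ∀ s : p.primeCompl, IsUnit (algebraMap B K s) := fun s => isUnit_iff_ne_zero.mpr fun h0 =>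
    hz s s.2 (by rw [h0, zero_mul]; exact isIntegral_zero)
  letI : Algebra C K := (IsLocalization.lift hne).toAlgebra
  haveI : IsScalarTower B C K := IsScalarTower.of_algebraMap_eq fun b => (IsLocalization.lift_eq hne b).symm
  haveI : IsNoetherianRing C := IsLocalization.isNoetherianRing p.primeCompl C inferInstance
  have hφ : (algebraMap C K).EssFiniteType := by
    rw [RingHom.essFiniteType_algebraMap]
    exact Algebra.EssFiniteType.of_comp B C K
  let I := (integralClosure C K).toSubring
  have hzI : z ∉ I := by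
    intro hzi
    obtain ⟨m, hm⟩ := IsIntegral.exists_multiple_integral_of_isLocalization p.primeCompl z hzi
    rw [Submonoid.smul_def, Algebra.smul_def] at hm
    exact hz m m.2 hm
  haveI : IsIntegrallyClosedIn I K := inferInstanceAs (IsIntegrallyClosedIn (integralClosure C K) K)
  obtain ⟨W, hIW, hzW⟩ := I.exists_le_valuationSubring_of_isIntegrallyClosedIn hzI
  obtain ⟨R, hR, hRC, hRz⟩ := DVRCrit.exists_dvr_not_mem (algebraMap C K) hφ W
    (fun c => hIW (show algebraMap C K c ∈ integralClosure C K from isIntegral_algebraMap)) {z}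
    (by simpa using hzW) ⟨z, Finset.mem_singleton_self z⟩
  refine ⟨R, hR, fun b => ?_, fun s hs hsz => hRz z (Finset.mem_singleton_self z) ?_⟩
  · rw [IsScalarTower.algebraMap_apply B C K]; exact hRC _
  · obtain ⟨u, hu⟩ := (IsLocalization.map_units C (⟨s, hs⟩ : p.primeCompl)).exists_left_inv
    have h1 := R.mul_mem _ _ (hRC u) hsz
    rwa [IsScalarTower.algebraMap_apply B C K, ← mul_assoc, ← map_mul, hu, map_one, one_mul] at h1

/-- A finitely generated submodule of `K` modulo the integral closure embeds into finitely many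
`K / R` for discrete valuation rings `R`. -/
theorem exists_finset_dvr (B K : Type u) [CommRing B] [IsNoetherianRing B]
    [Field K] [Algebra B K] [Algebra.EssFiniteType B K]
    (M : Submodule B (K ⧸ Subalgebra.toSubmodule (integralClosure B K))) [Module.Finite B M] :
    ∃ T : Finset (ValuationSubring K), (∀ R ∈ T, IsDiscreteValuationRing R ∧ ∀ b, algebraMap B K b ∈ R) ∧
      ∀ z : K, Submodule.Quotient.mk z ∈ M → (∀ R ∈ T, z ∈ R) → IsIntegral B z := by
  classical
  let π : K →ₗ[B] _ := (Subalgebra.toSubmodule (integralClosure B K)).mkQ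
  have hπ : ∀ z, π z = 0 ↔ IsIntegral B z := fun z => Submodule.Quotient.mk_eq_zero _
  let Good : ValuationSubring K → Prop := fun R => IsDiscreteValuationRing R ∧ ∀ b, algebraMap B K b ∈ R
  -- finitely many rings suffice for one associated prime
  have key : ∀ p : Ideal B, p.IsPrime → ∃ T : Finset (ValuationSubring K), (∀ R ∈ T, Good R) ∧
      ∀ z : K, π z ∈ M → (∀ b ∈ p, π (b • z) = 0) → (∀ R ∈ T, z ∈ R) → ∃ s ∉ p, π (s • z) = 0 := by
    intro p hp
    by_contra hne
    push Not at hne
    have step : ∀ T : {T : Finset (ValuationSubring K) // ∀ R ∈ T, Good R},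
        ∃ (z : K) (R : ValuationSubring K), π z ∈ M ∧ (∀ b ∈ p, π (b • z) = 0) ∧ (∀ R' ∈ T.1, z ∈ R') ∧
          Good R ∧ ∀ s ∉ p, s • z ∉ R := by
      intro T
      obtain ⟨z, hzM, hzp, hzT, hz⟩ := hne T.1 T.2
      obtain ⟨R, hR, hRB, hRz⟩ := exists_dvr_forall_smul_notMem B K p z fun s hs hi =>
        hz s hs ((hπ _).mpr (by rwa [Algebra.smul_def]))
      exact ⟨z, R, hzM, hzp, hzT, ⟨hR, hRB⟩, fun s hs => by rw [Algebra.smul_def]; exact hRz s hs⟩
    choose zf Rf hzM hzp hzT hRf hzR using step
    let next : {T : Finset (ValuationSubring K) // ∀ R ∈ T, Good R} →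
        {T : Finset (ValuationSubring K) // ∀ R ∈ T, Good R} := fun T =>
      ⟨insert (Rf T) T.1, fun R hR => by
        rcases Finset.mem_insert.mp hR with rfl | h
        · exact hRf T
        · exact T.2 R h⟩
    let seq : ℕ → {T : Finset (ValuationSubring K) // ∀ R ∈ T, Good R} :=
      fun n => next^[n] ⟨∅, fun _ h => absurd h (Finset.notMem_empty _)⟩
    have hseq : ∀ n, seq (n + 1) = next (seq n) := fun n => Function.iterate_succ_apply' _ _ _
    let S : ℕ →o Submodule B M := ⟨fun n => Submodule.span B
        ((fun i => (⟨π (zf (seq i)), hzM _⟩ : M)) '' Set.Iio n),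
      fun a b hab => Submodule.span_mono (Set.image_mono (Set.Iio_subset_Iio hab))⟩
    have main : ∀ n, ∀ (w : K) (hw : π w ∈ M), (⟨π w, hw⟩ : M) ∈ S n → (∀ R ∈ (seq n).1, w ∈ R) →
        π w = 0 := by
      intro n
      induction n with
      | zero =>
        intro w hw hmem _
        have h0 : (⟨π w, hw⟩ : M) = 0 := by simpa [S] using hmem
        exact congrArg Subtype.val h0
      | succ n ih =>
        intro w hw hmem hT
        have hins : Set.Iio (n + 1) = insert n (Set.Iio n) := by ext i; simp
        simp only [S, OrderHom.coe_mk, hins, Set.image_insert_eq, Submodule.mem_span_insert] at hmem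
        obtain ⟨c, y, hy, hwy⟩ := hmem
        rw [hseq] at hT
        have hwT : ∀ R ∈ (seq n).1, w ∈ R := fun R hR => hT R (Finset.mem_insert_of_mem hR)
        have hwR : w ∈ Rf (seq n) := hT _ (Finset.mem_insert_self _ _)
        have hsmul : ∀ R ∈ (seq n).1, ∀ b : B, ∀ v ∈ R, b • v ∈ R := fun R hR b v hv => by
          rw [Algebra.smul_def]; exact R.mul_mem _ _ (((seq n).2 R hR).2 b) hv
        have hy' : π (w - c • zf (seq n)) = y.1 := by
          have h1 := congrArg Subtype.val hwy
          simp only [Submodule.coe_add, Submodule.coe_smul] at h1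
          rw [map_sub, map_smul, h1, add_sub_cancel_left]
        have hyM : π (w - c • zf (seq n)) ∈ M := hy' ▸ y.2
        have hye : (⟨_, hyM⟩ : M) = y := Subtype.ext hy'
        have hy0 : π (w - c • zf (seq n)) = 0 := ih _ hyM (hye ▸ hy)
          (fun R hR => sub_mem (hwT R hR) (hsmul R hR c _ (hzT _ R hR)))
        by_cases hc : c ∈ p
        · rw [map_sub, hzp _ c hc, sub_zero] at hy0
          exact hy0
        · exfalso
          refine hzR (seq n) c hc ?_
          have hi : IsIntegral B (w - c • zf (seq n)) := (hπ _).mp hy0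
          have hmemR : w - c • zf (seq n) ∈ Rf (seq n) := by
            obtain ⟨hdvr, hB⟩ := hRf (seq n)
            let Rb : Subalgebra B K := { (Rf (seq n)).toSubring with algebraMap_mem' := hB }
            letI : Algebra B Rb := Rb.algebra
            obtain ⟨r, hr⟩ := IsIntegrallyClosed.algebraMap_eq_of_integral (R := Rf (seq n)) (K := K)
              (x := w - c • zf (seq n)) (by
                obtain ⟨q, hq, hqe⟩ := hi
                refine ⟨q.map ((algebraMap B K).codRestrict (Rf (seq n)).toSubring hB), hq.map _, ?_⟩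
                rw [Polynomial.eval₂_map]
                exact hqe)
            rw [← hr]; exact r.2
          have := sub_mem hwR hmemR
          rwa [sub_sub_cancel] at this
    obtain ⟨n, hn⟩ := monotone_stabilizes_iff_noetherian.mpr (inferInstance : IsNoetherian B M) S
    have hmem : (⟨π (zf (seq n)), hzM _⟩ : M) ∈ S n := by
      rw [hn (n + 1) (Nat.le_succ n)]
      exact Submodule.subset_span ⟨n, Nat.lt_succ_self n, rfl⟩
    have h0 := main n _ (hzM _) hmem (hzT (seq n))
    obtain ⟨-, hB⟩ := hRf (seq n)
    refine hzR (seq n) 1 (fun h => hp.ne_top ((Ideal.eq_top_iff_one p).mpr h)) ?_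
    rw [one_smul]
    obtain ⟨hdvr, -⟩ := hRf (seq n)
    obtain ⟨r, hr⟩ := IsIntegrallyClosed.algebraMap_eq_of_integral (R := Rf (seq n)) (K := K)
      (x := zf (seq n)) (by
        obtain ⟨q, hq, hqe⟩ := (hπ _).mp h0
        refine ⟨q.map ((algebraMap B K).codRestrict (Rf (seq n)).toSubring hB), hq.map _, ?_⟩
        rw [Polynomial.eval₂_map]
        exact hqe)
    rw [← hr]; exact r.2
  choose Tp hTp hTz using fun p : (associatedPrimes B M) => key p.1 p.2.1
  haveI : Finite (associatedPrimes B M) := (associatedPrimes.finite B M).to_subtype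
  haveI : Fintype (associatedPrimes B M) := Fintype.ofFinite _
  refine ⟨Finset.univ.biUnion Tp, fun R hR => ?_, fun z hzM hzR => ?_⟩
  · obtain ⟨p, -, hp⟩ := Finset.mem_biUnion.mp hR
    exact hTp p R hp
  · by_contra hz
    let L : Submodule B M :=
      { carrier := {w | ∃ z : K, π z = w.1 ∧ ∀ R ∈ Finset.univ.biUnion Tp, z ∈ R}
        zero_mem' := ⟨0, by simp, fun R _ => R.zero_mem⟩
        add_mem' := by
          rintro a b ⟨x, hx, hx'⟩ ⟨y, hy, hy'⟩
          exact ⟨x + y, by simp [map_add, hx, hy], fun R hR => R.add_mem _ _ (hx' R hR) (hy' R hR)⟩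
        smul_mem' := by
          rintro b a ⟨x, hx, hx'⟩
          refine ⟨b • x, by simp [map_smul, hx], fun R hR => ?_⟩
          obtain ⟨p, -, hp⟩ := Finset.mem_biUnion.mp hR
          rw [Algebra.smul_def]
          exact R.mul_mem _ _ ((hTp p R hp).2 b) (hx' R hR) }
    let w : L := ⟨⟨π z, hzM⟩, z, rfl, hzR⟩
    have hw : w ≠ 0 := fun h => hz ((hπ z).mp (congrArg (fun v : L => v.1.1) h))
    obtain ⟨P, hP, -⟩ := exists_le_isAssociatedPrime_of_isNoetherianRing B w hw
    have hPM : P ∈ associatedPrimes B M := hP.map_of_injective L.subtype L.injective_subtype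
    obtain ⟨hPp, v, hv⟩ := isAssociatedPrime_iff.mp hP
    obtain ⟨y, hy, hyR⟩ := v.2
    have hcol : ∀ b : B, b ∈ P ↔ π (b • y) = 0 := fun b => by
      rw [hv, Submodule.mem_colon_singleton, Submodule.mem_bot, map_smul, hy]
      constructor
      · exact fun h => congrArg (fun v : L => v.1.1) h
      · exact fun h => Subtype.ext (Subtype.ext h)
    obtain ⟨s, hs, hs0⟩ := hTz ⟨P, hPM⟩ y (hy ▸ v.1.2) (fun b hb => (hcol b).mp hb)
      (fun R hR => hyR R (Finset.mem_biUnion.mpr ⟨_, Finset.mem_univ _, hR⟩))
    exact hs ((hcol s).mpr hs0)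

end Groth.Agent.NormalTensor
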