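import Groth.Agent.NormalTensor.Branches

/-!
The normalisation of the reduction of the completion of `A` is the completion tensor the normalisation
of the reduction of `A`, when the formal fibres of `A` are geometrically normal.
-/

set_option autoImplicit false
set_option linter.style.haveILetI false

universe u

open TensorProduct IsLocalRing

namespace Groth.Agent.NormalTensor

open EGA4 (IsNormalRing)

/-- Identifying the normalisation of the reduction of `B` with an integral closure of a reduced quotient
of `B` by a nilpotent ideal. -/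
theorem exists_normRed_equiv {B C C' Q : Type u} [CommRing B] [CommRing C] [CommRing C'] [CommRing Q]
    [Algebra C Q] [IsFractionRing C Q] [Algebra C C'] [Algebra C' Q] [IsScalarTower C C' Q]
    [IsIntegralClosure C' C Q] (f : B →+* C) (hf : Function.Surjective f)
    (hk : RingHom.ker f = nilradical B) :
    ∃ e : CAlg2.normRed B ≃+* C',
      ∀ y : B, e (algebraMap (CAlg2.red B) (CAlg2.normRed B) (Ideal.Quotient.mk _ y)) =
        algebraMap C C' (f y) := by
  let e0 : CAlg2.red B ≃+* C :=
    (Ideal.quotEquivOfEq (I := nilradical B) (J := RingHom.ker f) hk.symm).trans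
      (RingHom.quotientKerEquivOfSurjective (f := f) hf)
  let Q0 := FractionRing (CAlg2.red B)
  let ψ : Q0 ≃+* Q := IsFractionRing.ringEquivOfRingEquiv e0
  have hψ : ∀ x : CAlg2.red B, ψ (algebraMap _ Q0 x) = algebraMap C Q (e0 x) := fun x =>
    IsFractionRing.ringEquivOfRingEquiv_algebraMap e0 x
  have hmem : ∀ x : CAlg2.normRed B, ψ (x : Q0) ∈ integralClosure C Q := fun x =>
    IsIntegral.map_of_comp_eq e0.toRingHom ψ.toRingHom (RingHom.ext fun r => (hψ r).symm) x.2
  let g : CAlg2.normRed B →+* integralClosure C Q :=
    (ψ.toRingHom.comp (integralClosure (CAlg2.red B) Q0).val.toRingHom).codRestrict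
      (integralClosure C Q) hmem
  have hg : Function.Bijective g := by
    refine ⟨fun x y h => Subtype.ext (ψ.injective (congrArg Subtype.val h)), fun y => ?_⟩
    have hy : IsIntegral (CAlg2.red B) (ψ.symm (y : Q)) :=
      IsIntegral.map_of_comp_eq e0.symm.toRingHom ψ.symm.toRingHom (RingHom.ext fun r => by
        apply ψ.injective
        show ψ (algebraMap _ Q0 (e0.symm r)) = ψ (ψ.symm (algebraMap C Q r))
        rw [hψ, RingEquiv.apply_symm_apply, RingEquiv.apply_symm_apply]) y.2
    exact ⟨⟨ψ.symm (y : Q), hy⟩, Subtype.ext (ψ.apply_symm_apply _)⟩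
  let h := IsIntegralClosure.equiv C (integralClosure C Q) Q C'
  refine ⟨(RingEquiv.ofBijective g hg).trans h.toRingEquiv, fun y => ?_⟩
  apply IsIntegralClosure.algebraMap_injective C' C Q
  show algebraMap C' Q (h (g _)) = _
  rw [IsIntegralClosure.algebraMap_equiv, ← IsScalarTower.algebraMap_apply]
  show ψ (algebraMap _ Q0 (Ideal.Quotient.mk (nilradical B) y)) = _
  rw [hψ]
  rfl

variable (A : Type u) [CommRing A] [IsNoetherianRing A] [IsLocalRing A]

theorem exists_normRed_completion_equiv (hA : EGA4.HasGeomNormalFormalFibres A) :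
    IsNormalRing (EGA4.Cpl A ⊗[A] CAlg2.normRed A) ∧ Module.Finite A (CAlg2.normRed A) ∧
    ∃ e : CAlg2.normRed (EGA4.Cpl A) ≃+* EGA4.Cpl A ⊗[A] CAlg2.normRed A,
      ∀ y : EGA4.Cpl A, e (algebraMap (CAlg2.red (EGA4.Cpl A)) _ (Ideal.Quotient.mk _ y)) =
        y ⊗ₜ[A] 1 := by
  let Â := EGA4.Cpl A
  haveI : Module.FaithfullyFlat A Â :=
    RegLocal.faithfullyFlat_completion A _ (maximalIdeal.isMaximal A).ne_top
  have H := fieldNormal_completion A hA
  let R := CAlg2.red A
  haveI : IsReduced R := (Ideal.isRadical_iff_quotient_reduced _).mp (Ideal.radical_isRadical _)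
  have hR : Function.Surjective (algebraMap A R) := Ideal.Quotient.mk_surjective
  let T := FractionRing R
  let R' := CAlg2.normRed A
  haveI hfin : Module.Finite A R' := finite_integralClosure_red A hA R hR
  haveI : Module.Finite R R' := Module.Finite.of_restrictScalars_finite A R R'
  obtain ⟨hR'n, hR'N⟩ := normalization_facts R
  have hC'N : IsNormalRing (Â ⊗[A] R') := isNormalRing_tensor_of_fieldNormal A Â H R' hR'N
  refine ⟨hC'N, hfin, ?_⟩
  haveI : IsReduced (Â ⊗[A] R) := isReduced_tensor A Â H R
  -- the map to the reduced quotient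
  let f : Â →+* Â ⊗[A] R := Algebra.TensorProduct.includeLeftRingHom
  have hf : Function.Surjective f := by
    intro z
    induction z using TensorProduct.induction_on with
    | zero => exact ⟨0, map_zero _⟩
    | tmul y r =>
      obtain ⟨a, rfl⟩ := hR r
      refine ⟨a • y, ?_⟩
      show (a • y) ⊗ₜ[A] (1 : R) = y ⊗ₜ algebraMap A R a
      rw [TensorProduct.smul_tmul, Algebra.smul_def, mul_one]
    | add x y hx hy =>
      obtain ⟨a, rfl⟩ := hx
      obtain ⟨b, rfl⟩ := hy
      exact ⟨a + b, map_add _ _ _⟩
  have hk : RingHom.ker f = nilradical Â := by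
    refine le_antisymm ?_ fun y hy => RingHom.mem_ker.mpr (IsReduced.eq_zero _ ?_)
    · have hs : RingHom.ker f ≤ (nilradical A).map (algebraMap A Â) := by
        intro y hy
        let π : Â →ₐ[A] Â ⧸ (nilradical A).map (algebraMap A Â) := Ideal.Quotient.mkₐ A _
        let q : R →ₐ[A] Â ⧸ (nilradical A).map (algebraMap A Â) :=
          Ideal.Quotient.liftₐ _ (Algebra.ofId A _) fun a ha =>
            Ideal.Quotient.eq_zero_iff_mem.mpr (Ideal.mem_map_of_mem _ ha)
        have := congrArg (Algebra.TensorProduct.lift π q fun _ _ => Commute.all _ _) (RingHom.mem_ker.mp hy)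
        rw [map_zero] at this
        have h2 : π y * q 1 = 0 := by simpa [f] using this
        rw [map_one, mul_one] at h2
        exact Ideal.Quotient.eq_zero_iff_mem.mp h2
      refine hs.trans (Ideal.map_le_iff_le_comap.mpr fun a ha => ?_)
      exact (mem_nilradical.mp ha).map (algebraMap A Â)
    · exact (mem_nilradical.mp hy).map f
  -- inclusion into a ring of fractions
  let C := Â ⊗[A] R
  let C' := Â ⊗[A] R'
  let N := Â ⊗[A] T
  letI algN : Algebra C N :=
    (Algebra.TensorProduct.map (AlgHom.id A Â) (IsScalarTower.toAlgHom A R T)).toRingHom.toAlgebra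
  let M : Submonoid C := (nonZeroDivisors R).map (Algebra.TensorProduct.includeRight (R := A) (A := Â))
  haveI hlocN : IsLocalization M N := isLocalization_tensor A Â R T (nonZeroDivisors R)
  have hinjN : Function.Injective (algebraMap C N) :=
    Module.Flat.lTensor_preserves_injective_linearMap (M := Â) (IsScalarTower.toAlgHom A R T).toLinearMap
      (IsFractionRing.injective R T)
  have hM : M ≤ nonZeroDivisors C := le_nonZeroDivisors_of_injective M hinjN
  let Q := FractionRing C
  have hu : ∀ m : M, IsUnit (algebraMap C Q m) := fun m =>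
    IsLocalization.map_units Q (⟨m, hM m.2⟩ : nonZeroDivisors C)
  let h : N →+* Q := IsLocalization.lift hu
  have hh : Function.Injective h := (IsLocalization.lift_injective_iff hu).mpr fun x y =>
    ⟨fun e => congrArg (algebraMap C Q) (hinjN e),
      fun e => congrArg (algebraMap C N) (IsFractionRing.injective C Q e)⟩
  let ι' : C' →ₐ[A] N := Algebra.TensorProduct.map (AlgHom.id A Â)
    ((integralClosure R T).val.restrictScalars A)
  have hι' : Function.Injective ι' :=
    Module.Flat.lTensor_preserves_injective_linearMap (M := Â)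
      ((integralClosure R T).val.restrictScalars A).toLinearMap Subtype.val_injective
  letI algC' : Algebra C C' :=
    (Algebra.TensorProduct.map (AlgHom.id A Â) (IsScalarTower.toAlgHom A R R')).toRingHom.toAlgebra
  letI algQ : Algebra C' Q := (h.comp ι'.toRingHom).toAlgebra
  haveI : IsScalarTower C C' Q := IsScalarTower.of_algebraMap_eq fun c => by
    show algebraMap C Q c = h (ι' (Algebra.TensorProduct.map (AlgHom.id A Â)
      (IsScalarTower.toAlgHom A R R') c))
    rw [← IsLocalization.lift_eq (S := N) hu c]
    refine congrArg h ?_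
    show Algebra.TensorProduct.map (AlgHom.id A Â) (IsScalarTower.toAlgHom A R T) c = _
    rw [← AlgHom.comp_apply, ← Algebra.TensorProduct.map_comp]
    rfl
  have hC'Q : Function.Injective (algebraMap C' Q) := hh.comp hι'
  haveI : IsLocalization (Algebra.algebraMapSubmonoid C' (nonZeroDivisors C)) Q :=
    isLocalization_intermediate _ hC'Q
  have hclosed : IsIntegrallyClosedIn C' Q :=
    isIntegrallyClosedIn_of_isLocalization (Algebra.algebraMapSubmonoid C' (nonZeroDivisors C))
      (le_nonZeroDivisors_of_injective (N := Q) _ hC'Q) hC'N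
  haveI hint : Algebra.IsIntegral C C' := ⟨fun z => by
    induction z using TensorProduct.induction_on with
    | zero => exact isIntegral_zero
    | tmul y x =>
      have h1 : IsIntegral C ((y ⊗ₜ 1 : C') * (1 ⊗ₜ x)) := by
        refine IsIntegral.mul ?_ ?_
        · have : (y ⊗ₜ[A] (1 : R') : C') = algebraMap C C' (y ⊗ₜ 1) := by
            show _ = y ⊗ₜ (IsScalarTower.toAlgHom A R R' 1)
            rw [map_one]
          rw [this]; exact isIntegral_algebraMap
        · exact IsIntegral.map_of_comp_eq
            (Algebra.TensorProduct.includeRight : R →ₐ[A] C).toRingHom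
            (Algebra.TensorProduct.includeRight : R' →ₐ[A] C').toRingHom
            (RingHom.ext fun r => by simp [RingHom.algebraMap_toAlgebra])
            (Algebra.IsIntegral.isIntegral (R := R) x)
      rwa [Algebra.TensorProduct.tmul_mul_tmul, mul_one, one_mul] at h1
    | add a b ha hb => exact ha.add hb⟩
  haveI : IsIntegralClosure C' C Q :=
    { algebraMap_injective := hC'Q
      isIntegral_iff := fun {x} => ⟨fun hx => IsIntegrallyClosedIn.algebraMap_eq_of_integral hx.tower_top,
        fun ⟨y, hy⟩ => hy ▸ (Algebra.IsIntegral.isIntegral y).algebraMap⟩ }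
  obtain ⟨e, he⟩ := exists_normRed_equiv (C := C) (C' := C') (Q := Q) f hf hk
  refine ⟨e, fun y => (he y).trans ?_⟩
  show y ⊗ₜ[A] (IsScalarTower.toAlgHom A R R' 1) = _
  rw [map_one]

end Groth.Agent.NormalTensor
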