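import Groth.Agent.NormalTensor.Main

/-!
Reducedness and integral closures under base change with universally normal fibres.
-/

set_option autoImplicit false
set_option linter.style.haveILetI false

universe u

open TensorProduct

namespace Groth.Agent.NormalTensor

variable (A A' : Type u) [CommRing A] [CommRing A'] [Algebra A A'] [Module.Flat A A']

/-- An injective map to finitely many modules stays injective after a flat base change. -/
theorem eq_zero_of_forall_component {M : Type u} [AddCommGroup M] [Module A M] {ι : Type u} [Finite ι]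
    {N : ι → Type u} [∀ i, AddCommGroup (N i)] [∀ i, Module A (N i)] (g : ∀ i, M →ₗ[A] N i)
    (hg : Function.Injective (LinearMap.pi g)) (y : A' ⊗[A] M) (h : ∀ i, (g i).lTensor A' y = 0) : y = 0 := by
  classical
  haveI := Fintype.ofFinite ι
  refine Module.Flat.lTensor_preserves_injective_linearMap (M := A') _ hg ?_
  rw [map_zero]
  apply (TensorProduct.piRight A A A' N).injective
  rw [map_zero]
  funext i
  have : ∀ w : A' ⊗[A] M, TensorProduct.piRight A A A' N ((LinearMap.pi g).lTensor A' w) i =
      (g i).lTensor A' w := fun w => by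
    induction w using TensorProduct.induction_on with
    | zero => simp
    | tmul a b => simp
    | add a b ha hb => simp only [map_add, Pi.add_apply, ha, hb]
  rw [this, h i]
  rfl

/-- A reduced algebra stays reduced after a base change with universally normal fibres. -/
theorem isReduced_tensor [IsNoetherianRing A] (H : FieldNormal A A') (B : Type u) [CommRing B] [Algebra A B]
    [IsReduced B] : IsReduced (A' ⊗[A] B) := by
  classical
  refine ⟨fun z hz => ?_⟩
  obtain ⟨S, hS⟩ := TensorProduct.exists_finset z
  let B₀ := Algebra.adjoin A ((S.image Prod.snd : Finset B) : Set B)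
  haveI : Algebra.FiniteType A B₀ := (Subalgebra.fg_iff_finiteType _).mp ⟨_, rfl⟩
  haveI : IsNoetherianRing B₀ := Algebra.FiniteType.isNoetherianRing A B₀
  haveI : IsReduced B₀ := isReduced_of_injective B₀.val Subtype.val_injective
  let g := Algebra.TensorProduct.map (AlgHom.id A A') B₀.val
  have hg : Function.Injective g :=
    Module.Flat.lTensor_preserves_injective_linearMap B₀.val.toLinearMap Subtype.val_injective
  obtain ⟨z₀, hz₀⟩ : ∃ z₀, g z₀ = z := by
    rw [hS]
    refine sum_mem (S := g.range) fun i hi => ⟨i.1 ⊗ₜ ⟨i.2, Algebra.subset_adjoin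
      (Finset.mem_coe.mpr (Finset.mem_image_of_mem _ hi))⟩, rfl⟩
  obtain ⟨n, hn⟩ := hz
  have hn₀ : z₀ ^ n = 0 := hg (by rw [map_pow, hz₀, hn, map_zero])
  haveI : Finite (minimalPrimes B₀) := (minimalPrimes.finite_of_isNoetherianRing B₀).to_subtype
  haveI : ∀ p : minimalPrimes B₀, (p : Ideal B₀).IsPrime := fun p => p.2.1.1
  let φ : ∀ p : minimalPrimes B₀, B₀ →ₐ[A] (p : Ideal B₀).ResidueField :=
    fun p => IsScalarTower.toAlgHom A B₀ _
  have hφ : Function.Injective (LinearMap.pi fun p => (φ p).toLinearMap) := by
    refine (injective_iff_map_eq_zero _).mpr fun b hb => ?_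
    have : b ∈ sInf (minimalPrimes B₀) := by
      rw [Submodule.mem_sInf]
      exact fun p hp => haveI := hp.1.1; Ideal.algebraMap_residueField_eq_zero.mp (congrFun hb ⟨p, hp⟩)
    rw [minimalPrimes, Ideal.sInf_minimalPrimes] at this
    obtain ⟨m, hm⟩ := Ideal.mem_radical_iff.mp this
    exact (isReduced_iff B₀).mp inferInstance b ⟨m, by simpa using hm⟩
  have h0 : z₀ = 0 := eq_zero_of_forall_component A A' _ hφ z₀ fun p => by
    haveI := isReduced_of_isNormalRing (H (p : Ideal B₀).ResidueField)
    have h1 : (Algebra.TensorProduct.map (AlgHom.id A A') (φ p)) z₀ ^ n = 0 := by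
      rw [← map_pow, hn₀, map_zero]
    exact IsReduced.eq_zero _ ⟨n, h1⟩
  rw [← hz₀, h0, map_zero]

/-- Noetherian case of the commutation of integral closure with base change. -/
theorem mem_range_integralClosure_noetherian (H : FieldNormal A A') (B C : Type u) [CommRing B]
    [IsNoetherianRing B] [CommRing C] [Algebra A B] [Algebra A C] [Algebra B C] [IsScalarTower A B C]
    [Algebra.FiniteType B C] (z : A' ⊗[A] C)
    (hz : (Algebra.TensorProduct.map (AlgHom.id A A') (IsScalarTower.toAlgHom A B C)).toRingHom.IsIntegralElem z) :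
    z ∈ LinearMap.range
      (((Subalgebra.toSubmodule (integralClosure B C)).subtype.restrictScalars A).lTensor A') := by
  classical
  haveI : IsNoetherianRing C := Algebra.FiniteType.isNoetherianRing B C
  haveI : Finite (minimalPrimes C) := (minimalPrimes.finite_of_isNoetherianRing C).to_subtype
  haveI : ∀ p : minimalPrimes C, (p : Ideal C).IsPrime := fun p => p.2.1.1
  let D := Subalgebra.toSubmodule (integralClosure B C)
  let E : (p : minimalPrimes C) → Submodule B (p : Ideal C).ResidueField :=
    fun p => Subalgebra.toSubmodule (integralClosure B (p : Ideal C).ResidueField)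
  let φ : (p : minimalPrimes C) → C →ₐ[B] (p : Ideal C).ResidueField :=
    fun p => IsScalarTower.toAlgHom B C _
  have hle : ∀ p, D ≤ (E p).comap (φ p).toLinearMap := fun p c hc => hc.map (φ p)
  let g : (p : minimalPrimes C) → (C ⧸ D) →ₗ[A] (p : Ideal C).ResidueField ⧸ E p :=
    fun p => (D.mapQ (E p) (φ p).toLinearMap (hle p)).restrictScalars A
  have hpi : Function.Injective (LinearMap.pi g) := by
    refine (injective_iff_map_eq_zero _).mpr fun m hm => ?_
    obtain ⟨c, rfl⟩ := D.mkQ_surjective m
    have hc : ∀ p : minimalPrimes C, IsIntegral B (φ p c) := fun p => by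
      have h2 := congrFun hm p
      exact (Submodule.Quotient.mk_eq_zero (E p)).mp h2
    choose q hq hqe using hc
    haveI := Fintype.ofFinite (minimalPrimes C)
    let Q := ∏ p, q p
    have hQ : Q.Monic := Polynomial.monic_prod_of_monic _ _ fun p _ => hq p
    have hmem : Polynomial.aeval c Q ∈ sInf (minimalPrimes C) := by
      rw [Submodule.mem_sInf]
      intro p hp
      haveI := hp.1.1
      refine Ideal.algebraMap_residueField_eq_zero.mp ?_
      show φ ⟨p, hp⟩ _ = 0
      rw [← Polynomial.aeval_algHom_apply, map_prod]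
      exact Finset.prod_eq_zero (Finset.mem_univ (⟨p, hp⟩ : minimalPrimes C))
        ((Polynomial.aeval_def _ _).trans (hqe ⟨p, hp⟩))
    rw [minimalPrimes, Ideal.sInf_minimalPrimes] at hmem
    obtain ⟨n, hn⟩ := Ideal.mem_radical_iff.mp hmem
    refine (Submodule.Quotient.mk_eq_zero D).mpr ⟨Q ^ n, hQ.pow n, ?_⟩
    rw [← Polynomial.aeval_def, map_pow]
    simpa using hn
  let π : C →ₗ[A] C ⧸ D := D.mkQ.restrictScalars A
  have hy : π.lTensor A' z = 0 := eq_zero_of_forall_component A A' g hpi _ fun p => by
    let F := (p : Ideal C).ResidueField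
    haveI : Algebra.EssFiniteType B F := Algebra.EssFiniteType.comp B C F
    let fp := Algebra.TensorProduct.map (AlgHom.id A A') ((φ p).restrictScalars A)
    obtain ⟨w, hw⟩ := mem_range_integralClosure A A' H B F (fp z) (by
      obtain ⟨q, hq, hqe⟩ := hz
      refine ⟨q, hq, ?_⟩
      have h1 := congrArg fp.toRingHom hqe
      rw [map_zero, Polynomial.hom_eval₂] at h1
      refine Eq.trans ?_ h1
      congr 1
      refine RingHom.ext fun w => ?_
      induction w using TensorProduct.induction_on with
      | zero => simp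
      | tmul a b => exact congrArg (fun l => a ⊗ₜ[A] l) ((φ p).commutes b).symm
      | add a b ha hb => simp only [map_add] at ha hb ⊢; rw [ha, hb])
    have h2 : ∀ v, (g p).lTensor A' (π.lTensor A' v) = ((E p).mkQ.restrictScalars A).lTensor A' (fp v) := by
      intro v
      induction v using TensorProduct.induction_on with
      | zero => simp
      | tmul a b => rfl
      | add a b ha hb => simp only [map_add] at ha hb ⊢; rw [ha, hb]
    rw [h2 z, ← hw, ← LinearMap.comp_apply, ← LinearMap.lTensor_comp]
    have h3 : ((E p).mkQ.restrictScalars A).comp ((E p).subtype.restrictScalars A) = 0 :=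
      LinearMap.ext fun e => (Submodule.Quotient.mk_eq_zero (E p)).mpr e.2
    rw [h3, LinearMap.lTensor_zero, LinearMap.zero_apply]
  have hex : Function.Exact ((D.subtype.restrictScalars A).lTensor A') (π.lTensor A') :=
    lTensor_exact A' (f := D.subtype.restrictScalars A) (g := π)
      (fun z => by simp [π, Submodule.Quotient.mk_eq_zero]) D.mkQ_surjective
  exact (hex z).mp hy

/-- Integral closure commutes with base change with universally normal fibres. -/
theorem mem_range_integralClosure_tensor [IsNoetherianRing A] (H : FieldNormal A A') (B C : Type u)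
    [CommRing B] [CommRing C] [Algebra A B] [Algebra A C] [Algebra B C] [IsScalarTower A B C]
    (z : A' ⊗[A] C)
    (hz : (Algebra.TensorProduct.map (AlgHom.id A A') (IsScalarTower.toAlgHom A B C)).toRingHom.IsIntegralElem z) :
    z ∈ LinearMap.range
      (((Subalgebra.toSubmodule (integralClosure B C)).subtype.restrictScalars A).lTensor A') := by
  classical
  obtain ⟨p, hp, hpz⟩ := hz
  obtain ⟨S, hS⟩ := TensorProduct.exists_finset z
  choose Sb hSb using fun c : A' ⊗[A] B => TensorProduct.exists_finset c
  let B₀ := Algebra.adjoin A ((p.coeffs.biUnion fun c => (Sb c).image Prod.snd : Finset B) : Set B)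
  haveI : Algebra.FiniteType A B₀ := (Subalgebra.fg_iff_finiteType _).mp ⟨_, rfl⟩
  haveI : IsNoetherianRing B₀ := Algebra.FiniteType.isNoetherianRing A B₀
  let C₀ := Algebra.adjoin B₀ ((S.image Prod.snd : Finset C) : Set C)
  haveI : Algebra.FiniteType B₀ C₀ := (Subalgebra.fg_iff_finiteType _).mp ⟨_, rfl⟩
  let ι : C₀ →ₐ[A] C := (C₀.val).restrictScalars A
  let g := Algebra.TensorProduct.map (AlgHom.id A A') ι
  have hg : Function.Injective g :=
    Module.Flat.lTensor_preserves_injective_linearMap ι.toLinearMap Subtype.val_injective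
  obtain ⟨z₀, hz₀⟩ : ∃ z₀, g z₀ = z := by
    rw [hS]
    refine sum_mem (S := g.range) fun i hi => ⟨i.1 ⊗ₜ ⟨i.2, Algebra.subset_adjoin
      (Finset.mem_coe.mpr (Finset.mem_image_of_mem _ hi))⟩, rfl⟩
  let ΦB := Algebra.TensorProduct.map (AlgHom.id A A') B₀.val
  have hlift : p ∈ Polynomial.lifts ΦB.toRingHom := (Polynomial.lifts_iff_coeff_lifts p).2 fun n => by
    by_cases hn : p.coeff n = 0
    · exact ⟨0, by rw [map_zero, hn]⟩
    · rw [hSb (p.coeff n)]
      refine sum_mem (S := ΦB.range) fun i hi => ?_
      have h1 : i.2 ∈ B₀ := Algebra.subset_adjoin (Finset.mem_coe.mpr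
        (Finset.mem_biUnion.mpr ⟨_, Polynomial.coeff_mem_coeffs hn, Finset.mem_image_of_mem _ hi⟩))
      exact ⟨i.1 ⊗ₜ ⟨i.2, h1⟩, rfl⟩
  rcases subsingleton_or_nontrivial (A' ⊗[A] B) with hsub | hnt
  · refine ⟨0, ?_⟩
    have h10 : (1 : A' ⊗[A] C) = 0 := by
      rw [← map_one (Algebra.TensorProduct.map (AlgHom.id A A') (IsScalarTower.toAlgHom A B C)),
        Subsingleton.elim (1 : A' ⊗[A] B) 0, map_zero]
    rw [map_zero, ← mul_one z, h10, mul_zero]
  obtain ⟨p₀, hp₀, -, hp₀m⟩ := Polynomial.lifts_and_degree_eq_and_monic hlift hp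
  obtain ⟨w, hw⟩ := mem_range_integralClosure_noetherian A A' H B₀ C₀ z₀ ⟨p₀, hp₀m, by
    apply hg
    rw [map_zero]
    show g.toRingHom _ = 0
    rw [Polynomial.hom_eval₂]
    rw [← hp₀, Polynomial.eval₂_map, ← hz₀] at hpz
    refine Eq.trans ?_ hpz
    congr 1
    refine RingHom.ext fun v => ?_
    induction v using TensorProduct.induction_on with
    | zero => simp
    | tmul a b => rfl
    | add a b ha hb => simp only [map_add] at ha hb ⊢; rw [ha, hb]⟩
  rw [← hz₀, ← hw]
  clear hw
  induction w using TensorProduct.induction_on with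
  | zero => exact ⟨0, by simp⟩
  | tmul a c =>
    refine ⟨a ⊗ₜ ⟨ι c.1, ?_⟩, rfl⟩
    have h1 : IsIntegral B₀ ((c.1 : C₀) : C) := (show IsIntegral B₀ c.1 from c.2).map C₀.val
    exact h1.tower_top
  | add a b ha hb =>
    obtain ⟨a', ha'⟩ := ha
    obtain ⟨b', hb'⟩ := hb
    exact ⟨a' + b', by rw [map_add, ha', hb', map_add, map_add]⟩

end Groth.Agent.NormalTensor
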